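import Groth.Agent.L09.GoodTop.Top

/-!
# Good moduli spaces are universally closed
-/

set_option autoImplicit false
set_option backward.isDefEq.respectTransparency false
set_option backward.isDefEq.respectTransparency.types false
set_option linter.style.haveILetI false
set_option linter.unusedVariables false
set_option linter.unusedSectionVars false

universe u

open CategoryTheory CategoryTheory.Limits AlgebraicGeometry Opposite AlgSt StMod

noncomputable section

namespace Groth.L09.GoodTop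

open Groth.L09.CohAffBC Groth.L24.St

variable {S : Scheme.{u}}

/-- Closed images under affine morphisms are recognised by specialisations. -/
theorem isClosed_image_of_specializes {X Y : Scheme.{u}} [IsAffine X] [IsAffine Y] (f : X ⟶ Y) {D : Set X}
    (hD : IsClosed D) (h : ∀ u w : Y, u ⤳ w → u ∈ f '' D → w ∈ f '' D) : IsClosed (f '' D) := by
  let eX := X.isoSpec.hom.homeomorph
  let eY := Y.isoSpec.hom.homeomorph
  have hnat : ∀ x, eY (f x) = PrimeSpectrum.comap f.appTop.hom (eX x) := fun x => by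
    show (f ≫ Y.isoSpec.hom) x = (X.isoSpec.hom ≫ Spec.map f.appTop) x
    rw [Scheme.isoSpec_hom_naturality]
  have himg : eY '' (f '' D) = PrimeSpectrum.comap f.appTop.hom '' (eX '' D) := by
    rw [Set.image_image, Set.image_image]
    exact Set.image_congr fun x _ => hnat x
  rw [← eY.isClosed_image, himg]
  refine PrimeSpectrum.isClosed_image_of_stableUnderSpecialization _ _ (eX.isClosed_image.2 hD) ?_
  intro a b hab ha
  rw [← himg] at ha ⊢
  obtain ⟨u, hu, rfl⟩ := ha
  exact ⟨eY.symm b, h u _ (by simpa using hab.map eY.symm.continuous) hu, eY.apply_symm_apply b⟩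

/-- Closedness in the category of a space is read on affine charts. -/
theorem isClosed_of_affine_charts {F : AlgSp.Sp S} {A : Set (Points (AlgSt.ofSp F))}
    (h : ∀ (U : Over S), IsAffine U.left → ∀ g : (AlgSp.yon S).obj U ⟶ F, IsClosed (Points.ofChart (spChart g) ⁻¹' A)) :
    IsClosed A := by
  rw [← isOpen_compl_iff]
  intro U x hx
  obtain ⟨g, ⟨i⟩⟩ := exists_spChart_iso x
  rw [ofChart_congr i, Set.preimage_compl, isOpen_compl_iff, ← isOpen_compl_iff, isOpen_iff_forall_mem_open]
  intro t ht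
  obtain ⟨V, hV, htV, -⟩ := exists_isAffineOpen_mem_and_subset (show t ∈ (⊤ : U.left.Opens) from trivial)
  let U' : Over S := Over.mk (V.ι ≫ U.hom)
  let j : U' ⟶ U := Over.homMk V.ι rfl
  have hcl := h U' hV ((AlgSp.yon S).map j ≫ g)
  refine ⟨V.ι '' (Points.ofChart (spChart ((AlgSp.yon S).map j ≫ g)) ⁻¹' A)ᶜ, ?_,
    V.ι.isOpenEmbedding.isOpenMap _ hcl.isOpen_compl, ⟨t, htV⟩, ?_, rfl⟩
  · rintro _ ⟨s, hs, rfl⟩
    show Points.ofChart (spChart g) (j.left s) ∉ A
    rw [← ofChart_spChart_comp]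
    exact hs
  · show Points.ofChart (spChart ((AlgSp.yon S).map j ≫ g)) (⟨t, htV⟩ : V.toScheme) ∉ A
    rw [ofChart_spChart_comp]
    exact ht

variable {𝒳 : AlgSt.Cat S} {M : AlgSp.Space S} (π : 𝒳 ⥤ᵇ AlgSt.ofSp M.obj)
  (h𝒳 : IsAlgStack Scheme.fppfPrecoverage 𝒳)
  (hM : CompactFibres M.obj) (hqc : AlgSt.IsQuasiCompactMor Scheme.fppfPrecoverage π)
  (hqs : AlgSt.IsQuasiSeparatedMor π) (h : IsGoodModuli π)
include h𝒳 hM hqc hqs h

/-- A good moduli space is closed on points. -/
theorem isClosedMor_of_good : IsClosedMor π := by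
  intro C hC
  refine isClosed_of_affine_charts fun U hU g => ?_
  obtain ⟨W, k, D, hW, hD, he⟩ := exists_affine_cover π h𝒳 hqc hC hU g
  rw [← he]
  haveI := hU
  haveI := hW
  refine isClosed_image_of_specializes k.left hD fun u w huw hu => ?_
  rw [he] at hu ⊢
  exact specializes_mem π h𝒳 hM hqc hqs h hC g huw hu

/-- A good moduli space is universally closed. -/
theorem isUnivClosed_of_good : IsUnivClosed Scheme.fppfPrecoverage π := by
  intro 𝒵 h𝒵 g C hC
  rw [← isOpen_compl_iff]
  intro W y hy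
  rw [Set.preimage_compl, isOpen_compl_iff, ← isOpen_compl_iff, isOpen_iff_forall_mem_open]
  intro t ht
  obtain ⟨V, hV, htV, -⟩ := exists_isAffineOpen_mem_and_subset (show t ∈ (⊤ : W.left.Opens) from trivial)
  let U : Over S := Over.mk (V.ι ≫ W.hom)
  let j : U ⟶ W := Over.homMk V.ι rfl
  let y' := BasedFunctor.comp (overMap j) y
  obtain ⟨gU, ⟨i⟩⟩ := exists_spChart_iso (BasedFunctor.comp y' g)
  let E := BasedFunctor.comp (fpPaste y' g π)
    (fpMap (F := AlgSt.ofSpMap gU) (G := π) (ofOverCat U) (BasedFunctor.id 𝒳) i.symm (Iso.refl π))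
  have hE : FibCat.IsEquivOver E := isEquivOver_comp (fpPaste_isEquivOver _ _ _)
    (fpMap_isEquivOver (ofOverCat_isEquivOver U) (isEquivOver_id _) _ _)
  obtain ⟨E', hE', ⟨e₁⟩, ⟨e₂⟩⟩ := exists_inverse hE
  let V' : AlgSp.Space S := ⟨(AlgSp.yon S).obj U, AlgSp.IsAlgSpace.yon_obj U⟩
  let g' : V'.obj ⟶ M.obj := gU
  have h𝒲 := Groth.L24.St.isAlgStack_fp (Groth.L09.Gerbe.isAlgStack_ofSp V') h𝒳
    (Groth.L09.Gerbe.isAlgStack_ofSp M) (AlgSt.ofSpMap g') π
  have hfib : IsAlgStack Scheme.fppfPrecoverage (FibCat.fp g π) :=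
    Groth.L24.St.isAlgStack_fp h𝒵 h𝒳 (Groth.L09.Gerbe.isAlgStack_ofSp M) g π
  let C' : Set (Points (FibCat.fp (AlgSt.ofSpMap gU) π)) :=
    Points.map (BasedFunctor.comp E' (FibCat.fpSnd y' (FibCat.fpFst g π))) ⁻¹' C
  haveI : IsAffine U.left := hV
  have hcU : CompactFibres V'.obj := compactFibres_of_qsScheme U
  have hcl : IsClosedMor (FibCat.fpFst (AlgSt.ofSpMap g') π) := isClosedMor_of_good _ h𝒲 hcU
    (Groth.L24.St.isQuasiCompactMor_fpFst _ hqc _) (Groth.L24.St.diag_fpFst_repWith _ hqs)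
    (isGoodModuli_fpFst M V' hM h𝒳 g' π hqc hqs h𝒲 h)
  have hC' := hcl C' (hC.preimage (continuous_map hfib _))
  have key : Points.ofChart y' ⁻¹' (Points.map (FibCat.fpFst g π) '' C) =
      Points.ofChart (spChart (𝟙 ((AlgSp.yon S).obj U))) ⁻¹' (Points.map (FibCat.fpFst (AlgSt.ofSpMap g') π) '' C') := by
    ext s
    constructor
    · rintro ⟨P, hP, hPs⟩
      obtain ⟨R, hR₁, hR₂⟩ := exists_points_fp hfib.isStack.1 h𝒵.isStack.1 (overCat_isFibGrpd U) (FibCat.fpFst g π) y'
        (ptOver s) P hPs.symm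
      refine ⟨Points.map E R, ?_, ?_⟩
      · show Points.map _ (Points.map E R) ∈ C
        rw [← map_comp_apply]
        rw [show BasedFunctor.comp E (BasedFunctor.comp E' (FibCat.fpSnd y' (FibCat.fpFst g π))) =
          BasedFunctor.comp (BasedFunctor.comp E E') (FibCat.fpSnd y' (FibCat.fpFst g π)) from rfl,
          map_congr (whiskerR e₁ _)]
        show Points.map (FibCat.fpSnd y' (FibCat.fpFst g π)) R ∈ C
        rw [hR₂]
        exact hP
      · rw [← map_comp_apply]
        show Points.map (BasedFunctor.comp (FibCat.fpFst y' (FibCat.fpFst g π)) (ofOverCat U)) R = _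
        rw [map_comp_apply, hR₁]
        rfl
    · rintro ⟨P', hP', hPs⟩
      obtain ⟨R, rfl⟩ := (bijective_map_of_isEquivOver hE).2 P'
      refine ⟨Points.map (FibCat.fpSnd y' (FibCat.fpFst g π)) R, ?_, ?_⟩
      · have := hP'
        simp only [C', Set.mem_preimage] at this
        rw [← map_comp_apply, show BasedFunctor.comp E (BasedFunctor.comp E' (FibCat.fpSnd y' (FibCat.fpFst g π))) =
          BasedFunctor.comp (BasedFunctor.comp E E') (FibCat.fpSnd y' (FibCat.fpFst g π)) from rfl,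
          map_congr (whiskerR e₁ _)] at this
        exact this
      · have hRs : Points.map (FibCat.fpFst y' (FibCat.fpFst g π)) R = ptOver s := by
          refine (bijective_map_of_isEquivOver (ofOverCat_isEquivOver U)).1 ?_
          rw [← map_comp_apply] at hPs ⊢
          exact hPs
        rw [← map_comp_apply, ← map_congr (FibCat.fpIso y' (FibCat.fpFst g π)), map_comp_apply, hRs]
        rfl
  refine ⟨V.ι '' (Points.ofChart y' ⁻¹' (Points.map (FibCat.fpFst g π) '' C))ᶜ, ?_,
    V.ι.isOpenEmbedding.isOpenMap _ ?_, ⟨t, htV⟩, ?_, rfl⟩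
  · rintro _ ⟨s, hs, rfl⟩ hmem
    refine hs ?_
    rw [Set.mem_preimage, ofChart_overMap_comp]
    exact hmem
  · rw [key, isOpen_compl_iff]
    exact hC'.preimage (continuous_ofChart (Groth.L09.Gerbe.isAlgStack_ofSp V') _)
  · intro hmem
    refine ht ?_
    rw [Set.mem_preimage]
    rw [Set.mem_preimage, ofChart_overMap_comp] at hmem
    exact hmem

end Groth.L09.GoodTop
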