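import Groth.Agent.L09.Stack.ClosedSub
import Groth.Agent.L23.RelGen.Glue

/-!
# Membership in a closed substack as factorisation through a closed subscheme
-/

set_option autoImplicit false
set_option backward.isDefEq.respectTransparency false
set_option backward.isDefEq.respectTransparency.types false

universe u

open CategoryTheory CategoryTheory.Limits AlgebraicGeometry Opposite AlgSt

noncomputable section

namespace Groth.L09.GoodTop

open Groth.L24.St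

variable {S : Scheme.{u}} {𝒳 : AlgSt.Cat S} {Q : 𝒳.obj → Prop}

/-- Membership in a closed substack descends along morphisms. -/
theorem mem_of_hom (h : FibCat.IsFibGrpd 𝒳.p) (hQ : IsClosedSubstack 𝒳 Q Scheme.fppfPrecoverage)
    {z' z : 𝒳.obj} (m : z' ⟶ z) (hz : Q z) : Q z' := by
  obtain ⟨y, r, e, hr⟩ := Groth.L23.RelGen.exists_lift (𝒳 := fullSub 𝒳 Q) hQ.2.1.isStack.1 (x := ⟨z, hz⟩) (𝒳.p.map m)
  obtain ⟨k, -, -⟩ := exists_iso_factor h m r.hom e.symm (by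
    show eqToHom e.symm ≫ (fullSub 𝒳 Q).p.map r = _
    rw [hr, eqToHom_trans_assoc, eqToHom_refl, Category.id_comp])
  exact hQ.1.of_iso k.symm y.property

/-- The closed subscheme cut out on the scheme of an object by a closed substack. -/
theorem exists_closed_iff (h𝒳 : IsAlgStack Scheme.fppfPrecoverage 𝒳)
    (hQ : IsClosedSubstack 𝒳 Q Scheme.fppfPrecoverage) (x : 𝒳.obj) :
    ∃ (Z : Scheme.{u}) (j : Z ⟶ StMod.sch 𝒳 x), IsClosedImmersion j ∧
      ∀ (z : 𝒳.obj) (φ : z ⟶ x), Q z ↔ ∃ l : StMod.sch 𝒳 z ⟶ Z, l ≫ j = StMod.bmap 𝒳 φ := by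
  obtain ⟨G, φ₀, hφ₀⟩ := exists_overCat_functor h𝒳.isStack.1 x rfl
  obtain ⟨F, e, he, ha⟩ := hQ.2.2 (𝒳.p.obj x) G
  let U := 𝒳.p.obj x
  let Z := ha.1.pullback (𝟙 ((AlgSp.yon S).obj U))
  let pZ := ha.1.fst (𝟙 ((AlgSp.yon S).obj U))
  let jZ := ha.1.snd (𝟙 ((AlgSp.yon S).obj U))
  have sq := ha.1.isPullback (𝟙 ((AlgSp.yon S).obj U))
  have hj : IsClosedImmersion jZ.left := Groth.L23.repWith_prop ha sq
  have : IsIso pZ := sq.isIso_fst_of_isIso
  have hpj : pZ ≫ spMapOfOver (BasedFunctor.comp e (FibCat.fpFst G (subIncl 𝒳 Q))) = (AlgSp.yon S).map jZ :=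
    sq.w.trans (Category.comp_id _)
  refine ⟨Z.left, jZ.left, hj, fun z φ => ?_⟩
  let ψ : 𝒳.p.obj z ⟶ U := 𝒳.p.map φ
  let a : (FibCat.overCat U).obj := Over.mk ψ
  obtain ⟨d, hd⟩ := hφ₀.eq
  obtain ⟨k, -, -⟩ := exists_iso_factor h𝒳.isStack.1 φ
    (G.map (Over.homMk ψ (Category.comp_id _) : a ⟶ idObj U) ≫ φ₀.hom) (G.w_obj a).symm (by
      simp [p_map_map, hd, a, ψ]
      rfl)
  have hiff : Q z ↔ Q (G.obj a) := ⟨fun h => hQ.1.of_iso k h, fun h => hQ.1.of_iso k.symm h⟩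
  rw [hiff]
  constructor
  · intro hz
    have hall : ∀ b : (FibCat.overCat (𝒳.p.obj z)).obj, Q (G.obj ((overMap ψ).obj b)) := fun b =>
      mem_of_hom h𝒳.isStack.1 hQ (G.map (Over.homMk b.hom rfl : (overMap ψ).obj b ⟶ a)) hz
    let σ : FibCat.overCat (𝒳.p.obj z) ⥤ᵇ fullSub 𝒳 Q :=
      { toFunctor := ObjectProperty.lift _ (BasedFunctor.comp (overMap ψ) G).toFunctor hall
        w := (BasedFunctor.comp (overMap ψ) G).w }
    obtain ⟨s, hs⟩ := exists_section_of_lift he ψ σ (Iso.refl _)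
    obtain ⟨l, hl⟩ := (AlgSp.yon S).map_surjective (s ≫ inv pZ)
    refine ⟨l.left, ?_⟩
    have : l ≫ jZ = ψ := (AlgSp.yon S).map_injective (by
      rw [Functor.map_comp, hl, Category.assoc, ← hpj, IsIso.inv_hom_id_assoc, hs])
    exact congrArg CommaMorphism.left this
  · rintro ⟨l, hl⟩
    have hl₀ : l ≫ Z.hom = (𝒳.p.obj z).hom := by
      refine Eq.trans ?_ (Over.w ψ)
      show l ≫ Z.hom = ψ.left ≫ U.hom
      rw [← Over.w jZ, ← Category.assoc]
      exact congrArg (· ≫ U.hom) hl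
    let lo : 𝒳.p.obj z ⟶ Z := Over.homMk l hl₀
    have hlo : lo ≫ jZ = ψ := Over.OverMorphism.ext hl
    obtain ⟨y, ⟨i⟩⟩ := exists_lift_of_section e ψ ((AlgSp.yon S).map lo ≫ pZ) (by
      rw [Category.assoc, hpj, ← Functor.map_comp, hlo])
    let k' : (overMap ψ).obj (idObj (𝒳.p.obj z)) ≅ a :=
      Over.isoMk (Iso.refl _) (by simp [overMap, a])
    exact hQ.1.of_iso (appIso i (idObj _) ≪≫ G.toFunctor.mapIso k') (y.obj (idObj _)).property

end Groth.L09.GoodTop
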