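import Groth.Agent.L09.GoodTop.KPoints
import Groth.Agent.L23.EmbedSpace
import Groth.Agent.L23.QcCalc
import Groth.Agent.L24.QuotMor.Desc

/-!
# Rational points with the same image in a good moduli space
-/

set_option autoImplicit false
set_option backward.isDefEq.respectTransparency false
set_option backward.isDefEq.respectTransparency.types false
set_option linter.style.haveILetI false
set_option linter.unusedVariables false
set_option linter.unusedSectionVars false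

universe u

open CategoryTheory CategoryTheory.Limits AlgebraicGeometry Opposite AlgSt StMod

noncomputable section

namespace Groth.L09.GoodTop

open Groth.L24.St Groth.L09.CohAffBC

variable {S : Scheme.{u}}

theorem eltObj_ext {N : AlgSp.Sp S} {a b : (ofSp N).obj} (h : a.base = b.base)
    (h2 : a.sec = N.obj.map (eqToHom h).op b.sec) : a = b := by
  have key : ∀ {T T' : Over S} (x : N.obj.obj (op T)) (y : N.obj.obj (op T')) (e : T = T'),
      x = N.obj.map (eqToHom e).op y → (⟨T, x⟩ : (ofSp N).obj) = ⟨T', y⟩ := by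
    rintro T T' x y rfl e
    rw [e]
    exact congrArg (fun z => (⟨T, z⟩ : (ofSp N).obj)) (by simp)
  exact key a.sec b.sec h h2

/-- Functors into a sheaf with equal values are isomorphic. -/
def isoOfObjEq {𝒳 : AlgSt.Cat S} {N : AlgSp.Sp S} (F G : 𝒳 ⥤ᵇ ofSp N) (h : ∀ a, F.obj a = G.obj a) : F ≅ G :=
  mkIso2 (fun a => eqToIso (h a))
    (fun a b φ => Stk.EltObj.hom_ext (by
      have e1 : (F.map φ).hom = _ := p_map_map F φ
      have e2 : (G.map φ).hom = _ := p_map_map G φ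
      have h1 : ∀ {x y : (ofSp N).obj} (e : x = y), (eqToHom e).hom = eqToHom (congrArg (fun z => z.base) e) := by
        rintro x y rfl; rfl
      show (F.map φ).hom ≫ (eqToHom (h b)).hom = (eqToHom (h a)).hom ≫ (G.map φ).hom
      rw [h1, h1, e1, e2]
      simp))
    (fun a => OverId.of_eq (congrArg (fun z => z.base) (h a)) (eqToHom_map (ofSp N).p (h a)))

theorem obj_ext_terminal {a b : (AlgSt.ofSch (Over.mk (𝟙 S))).obj} (h : a.base = b.base) : a = b := by
  obtain ⟨T, ⟨x⟩⟩ := a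
  obtain ⟨T', ⟨y⟩⟩ := b
  subst h
  exact congrArg (fun z => (⟨T, ⟨z⟩⟩ : (AlgSt.ofSch (Over.mk (𝟙 S))).obj)) (Over.mkIdTerminal.hom_ext x y)

/-- Functors into the base are isomorphic. -/
def isoToBase {𝒳 : AlgSt.Cat S} (F G : 𝒳 ⥤ᵇ AlgSt.ofSch (Over.mk (𝟙 S))) : F ≅ G :=
  isoOfObjEq F G fun a => obj_ext_terminal ((F.w_obj a).trans (G.w_obj a).symm)

theorem spChart_inj {N : AlgSp.Sp S} {T : Over S} {a b : (AlgSp.yon S).obj T ⟶ N} (e : spChart a ≅ spChart b) :
    a = b := by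
  have := spMap_congr (whiskerL (toOverCat T) e)
  rwa [show BasedFunctor.comp (toOverCat T) (spChart a) = ofSpMap a from rfl,
    show BasedFunctor.comp (toOverCat T) (spChart b) = ofSpMap b from rfl, spMap_ofSpMap, spMap_ofSpMap] at this

variable {k : Type u} [Field k]

theorem isQuasiSeparatedSp_yon [QuasiSeparatedSpace S] (T : Over S) [QuasiSeparatedSpace T.left] :
    AlgSp.IsQuasiSeparatedSp ((AlgSp.yon S).obj T) := by
  show AlgSp.RepWith _ _
  rw [AlgSp.repWith_diag_yon_iff]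
  haveI : QuasiSeparated T.hom := .of_comp T.hom (terminal.from S)
  show QuasiCompact (pullback.diagonal T.hom)
  infer_instance

variable [IsAlgClosed k] [QuasiSeparatedSpace S] {𝒳 : AlgSt.Cat S} (h𝒳 : IsAlgStack Scheme.fppfPrecoverage 𝒳)
  (τ : 𝒳 ⥤ᵇ AlgSt.ofSch (Over.mk (𝟙 S))) {M : AlgSp.Space S} (hM : AlgSp.IsQuasiSeparatedSp M.obj)
  (π : 𝒳 ⥤ᵇ AlgSt.ofSp M.obj)
  (hqc : AlgSt.IsQuasiCompactMor Scheme.fppfPrecoverage π) (hqs : AlgSt.IsQuasiSeparatedMor π)
  (h : StMod.IsGoodModuli π) (t : Spec (CommRingCat.of k) ⟶ S)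

/-- The map of the base. -/
abbrev baseC : AlgSt.ofSch (Over.mk t) ⥤ᵇ AlgSt.ofSch (Over.mk (𝟙 S)) :=
  AlgSt.ofSpMap ((AlgSp.yon S).map (Over.homMk t (Category.comp_id t) : Over.mk t ⟶ Over.mk (𝟙 S)))

/-- A pair of sections as a section of the product. -/
def mkPair {N : AlgSp.Sp S} {T U : Over S} (a : N.obj.obj (op U)) (b : U ⟶ T) :
    (N ⨯ (AlgSp.yon S).obj T).obj.obj (op U) :=
  (AlgSp.J S).uliftYonedaEquiv
    (prod.lift ((AlgSp.J S).uliftYonedaEquiv.symm a) ((AlgSp.yon S).map b))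

theorem map_mkPair {N : AlgSp.Sp S} {T U V : Over S} (a : N.obj.obj (op U)) (b : U ⟶ T) (c : V ⟶ U) :
    (N ⨯ (AlgSp.yon S).obj T).obj.map c.op (mkPair a b) = mkPair (N.obj.map c.op a) (c ≫ b) := by
  refine ((AlgSp.J S).uliftYonedaEquiv_naturality _ c).trans (congrArg (AlgSp.J S).uliftYonedaEquiv ?_)
  rw [prod.comp_lift]
  refine congrArg₂ prod.lift ?_ ((AlgSp.yon S).map_comp c b).symm
  refine (AlgSp.J S).uliftYonedaEquiv.injective ?_
  rw [← GrothendieckTopology.uliftYonedaEquiv_naturality, Equiv.apply_symm_apply, Equiv.apply_symm_apply]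

theorem fst_mkPair {N : AlgSp.Sp S} {T U : Over S} (a : N.obj.obj (op U)) (b : U ⟶ T) :
    (prod.fst : N ⨯ (AlgSp.yon S).obj T ⟶ N).hom.app (op U) (mkPair a b) = a := by
  refine ((AlgSp.J S).uliftYonedaEquiv_comp _ _).symm.trans ?_
  rw [prod.lift_fst, Equiv.apply_symm_apply]

theorem snd_mkPair {N : AlgSp.Sp S} {T U : Over S} (a : N.obj.obj (op U)) (b : U ⟶ T) :
    (prod.snd : N ⨯ (AlgSp.yon S).obj T ⟶ _).hom.app (op U) (mkPair a b) = ULift.up b := by
  refine ((AlgSp.J S).uliftYonedaEquiv_comp _ _).symm.trans ?_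
  rw [prod.lift_snd]
  exact congrArg ULift.up (Category.id_comp b)

/-- The section of the product at an object of the base change. -/
def pairSec (w : (FibCat.fp τ (baseC t)).obj) : (ofSp (M.obj ⨯ (AlgSp.yon S).obj (Over.mk t))).obj :=
  ⟨𝒳.p.obj w.obj.fst, mkPair (AlgSt.fibSec π (T := 𝒳.p.obj w.obj.fst) ⟨w.obj.fst, rfl⟩)
    (eqToHom ((FibCat.fpSnd τ (baseC t)).w_obj w).symm ≫ w.obj.snd.sec.down)⟩

theorem pairSec_natural {w' w : (FibCat.fp τ (baseC t)).obj} (φ : w' ⟶ w) :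
    (M.obj ⨯ (AlgSp.yon S).obj (Over.mk t)).obj.map (𝒳.p.map φ.hom.fst).op (pairSec τ π t w).sec =
      (pairSec τ π t w').sec := by
  refine (map_mkPair _ _ _).trans (congrArg₂ mkPair (Groth.L24.QuotMor.fibSec_map π φ.hom.fst) ?_)
  have e : 𝒳.p.map φ.hom.fst = eqToHom ((FibCat.fpSnd τ (baseC t)).w_obj w').symm ≫
      φ.hom.snd.hom ≫ eqToHom ((FibCat.fpSnd τ (baseC t)).w_obj w) := by
    show _ = _ ≫ ((AlgSt.ofSch (Over.mk t)).p.map ((FibCat.fpSnd τ (baseC t)).map φ)) ≫ _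
    rw [p_map_map (FibCat.fpSnd τ (baseC t)) φ]
    simp
  rw [e]
  have h2 : φ.hom.snd.hom ≫ w.obj.snd.sec.down = w'.obj.snd.sec.down := congrArg ULift.down φ.hom.snd.map_sec
  simp [h2]

/-- The map to the product. -/
def pairMor : FibCat.fp τ (baseC t) ⥤ᵇ ofSp (M.obj ⨯ (AlgSp.yon S).obj (Over.mk t)) where
  toFunctor :=
    { obj := pairSec τ π t
      map := fun {w' w} φ => ⟨𝒳.p.map φ.hom.fst, pairSec_natural τ π t φ⟩
      map_id := fun w => Stk.EltObj.hom_ext (𝒳.p.map_id w.obj.fst)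
      map_comp := fun φ ψ => Stk.EltObj.hom_ext (𝒳.p.map_comp φ.hom.fst ψ.hom.fst) }
  w := rfl

/-- The projection to the space of the map to the product. -/
def pairMor_fst : BasedFunctor.comp (pairMor τ π t) (ofSpMap prod.fst) ≅
    BasedFunctor.comp (FibCat.fpFst τ (baseC t)) π :=
  isoOfObjEq _ _ fun w => by
    refine eltObj_ext (π.w_obj w.obj.fst).symm ?_
    exact fst_mkPair _ _

/-- The projection to the field of the map to the product. -/
def pairMor_snd : BasedFunctor.comp (pairMor τ π t) (ofSpMap prod.snd) ≅ FibCat.fpSnd τ (baseC t) :=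
  isoOfObjEq _ _ fun w => by
    refine eltObj_ext ((FibCat.fpSnd τ (baseC t)).w_obj w).symm ?_
    exact snd_mkPair _ _

include h𝒳 hM hqc hqs h

/-- Two rational points have the same image exactly when their closures meet. -/
theorem comp_eq_iff_closure_inter (x₁ x₂ : FibCat.overCat (Over.mk t) ⥤ᵇ 𝒳)
    (e₁ : BasedFunctor.comp x₁ τ ≅ BasedFunctor.comp (AlgSt.ofOverCat (Over.mk t)) (baseC t))
    (e₂ : BasedFunctor.comp x₂ τ ≅ BasedFunctor.comp (AlgSt.ofOverCat (Over.mk t)) (baseC t))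
    (t₀ : ↥(Spec (CommRingCat.of k))) :
    BasedFunctor.comp x₁ π = BasedFunctor.comp x₂ π ↔
      (closure {AlgSt.Points.ofChart (FibCat.fpLift x₁ (AlgSt.ofOverCat (Over.mk t)) e₁) t₀} ∩
        closure {AlgSt.Points.ofChart (FibCat.fpLift x₂ (AlgSt.ofOverCat (Over.mk t)) e₂) t₀}).Nonempty := by
  let T : AlgSp.Space S := ⟨(AlgSp.yon S).obj (Over.mk t), AlgSp.IsAlgSpace.yon_obj _⟩
  let B : AlgSp.Space S := ⟨(AlgSp.yon S).obj (Over.mk (𝟙 S)), AlgSp.IsAlgSpace.yon_obj _⟩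
  haveI : Subsingleton (Over.mk t).left := inferInstanceAs (Subsingleton (Spec (CommRingCat.of k)))
  have h𝒲 : IsAlgStack Scheme.fppfPrecoverage (FibCat.fp τ (baseC t)) :=
    Groth.L24.St.isAlgStack_fp h𝒳 (Groth.L09.Gerbe.isAlgStack_ofSp T) (Groth.L09.Gerbe.isAlgStack_ofSp B) τ
      (baseC t)
  constructor
  · intro heq
    obtain ⟨g, ⟨i⟩⟩ := exists_spChart_iso (BasedFunctor.comp x₁ π)
    have i₂ : BasedFunctor.comp x₂ π ≅ spChart g := eqToIso heq.symm ≪≫ i
    let y₁ := FibCat.fpLift (ofOverCat (Over.mk t)) x₁ (i.symm :)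
    let y₂ := FibCat.fpLift (ofOverCat (Over.mk t)) x₂ (i₂.symm :)
    have H := affGood_fp h𝒳 (compactFibres_of_qsSp hM) π hqc hqs h (U := Over.mk t) (isAffine_Spec _) g
    let Θ : FibCat.fp (AlgSt.ofSpMap g) π ⥤ᵇ FibCat.fp τ (baseC t) :=
      FibCat.fpLift (FibCat.fpSnd _ π) (FibCat.fpFst _ π) (isoToBase _ _)
    have hmeet : (closure {Points.ofChart y₁ t₀} ∩ closure {Points.ofChart y₂ t₀}).Nonempty := by
      by_contra hne
      rw [Set.not_nonempty_iff_eq_empty] at hne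
      obtain ⟨f, hf₁, hf₂⟩ := H.exists_sep isClosed_closure isClosed_closure (Set.disjoint_iff_inter_eq_empty.2 hne)
      have e : img (bcMap π g) (Points.ofChart y₂ t₀) = img (bcMap π g) (Points.ofChart y₁ t₀) :=
        Subsingleton.elim _ _
      exact hf₁ _ (subset_closure rfl) (e ▸ hf₂ _ (subset_closure rfl))
    obtain ⟨P, hP₁, hP₂⟩ := hmeet
    have hc := continuous_map h𝒲 Θ
    have key : ∀ (x : FibCat.overCat (Over.mk t) ⥤ᵇ 𝒳) (j : spChart g ≅ BasedFunctor.comp x π) (e),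
        Points.map Θ (Points.ofChart (FibCat.fpLift (ofOverCat (Over.mk t)) x j) t₀) =
          Points.ofChart (FibCat.fpLift x (ofOverCat (Over.mk t)) e) t₀ := by
      intro x j e
      let a₀ : (FibCat.overCat (Over.mk t)).obj :=
        Over.mk (Over.homMk ((Over.mk t).left.fromSpecResidueField t₀) rfl :
          Over.mk ((Over.mk t).left.fromSpecResidueField t₀ ≫ (Over.mk t).hom) ⟶ Over.mk t)
      apply mk_eq_of_hom
      refine (fpIsoMk (F := τ) (G := baseC t) (x := Θ.obj ((FibCat.fpLift (ofOverCat (Over.mk t)) x j).obj a₀))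
        (y := (FibCat.fpLift x (ofOverCat (Over.mk t)) e).obj a₀) (Iso.refl (x.obj a₀))
        (Iso.refl ((ofOverCat (Over.mk t)).obj a₀)) ?_).hom
      refine Stk.EltObj.hom_ext ?_
      have hom_eq : ∀ {a b : (ofSch (Over.mk (𝟙 S))).obj} (u v : a ⟶ b), OverId u → OverId v → u.hom = v.hom :=
        fun u v hu hv => by
          obtain ⟨c, hcu⟩ := hu.eq
          obtain ⟨d, hdv⟩ := hv.eq
          exact hcu.trans hdv.symm
      exact hom_eq _ _ (((overId_id _).map τ).comp (fp_overId _)) ((fp_overId _).comp ((overId_id _).map (baseC t)))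
    refine ⟨Points.map Θ P, ?_, ?_⟩
    · have := image_closure_subset_closure_image hc ⟨P, hP₁, rfl⟩
      rwa [Set.image_singleton, key x₁ i.symm e₁] at this
    · have := image_closure_subset_closure_image hc ⟨P, hP₂, rfl⟩
      rwa [Set.image_singleton, key x₂ i₂.symm e₂] at this
  · rintro ⟨P, hP₁, hP₂⟩
    have hBd : AlgSp.IsQuasiSeparatedSp B.obj := by
      haveI : QuasiSeparatedSpace (Over.mk (𝟙 S)).left := ‹QuasiSeparatedSpace S›
      exact isQuasiSeparatedSp_yon _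
    have hTd : AlgSp.IsQuasiSeparatedSp T.obj := by
      haveI : QuasiSeparatedSpace (Over.mk t).left := inferInstanceAs (QuasiSeparatedSpace (Spec (CommRingCat.of k)))
      exact isQuasiSeparatedSp_yon _
    let ht : IsTerminal B.obj := IsTerminal.isTerminalObj (AlgSp.yon S) _ Over.mkIdTerminal
    have sq : IsPullback (prod.fst : M.obj ⨯ T.obj ⟶ M.obj) prod.snd (ht.from _) (ht.from _) :=
      IsPullback.mk' (ht.hom_ext _ _) (fun _ _ _ h₁ h₂ => prod.hom_ext h₁ h₂)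
        fun _ a b _ => ⟨prod.lift a b, prod.lift_fst _ _, prod.lift_snd _ _⟩
    let M' : AlgSp.Space S := ⟨M.obj ⨯ T.obj, Groth.L23.EmbedSpace.isAlgSpace_prod M.property T.property⟩
    have hc' : CompactFibres M'.obj :=
      compactFibres_of_qsSp (Groth.L23.isQuasiSeparatedSp_of_isPullback sq hM hBd hTd)
    let Φ : FibCat.fp τ (baseC t) ⥤ᵇ ofSp M'.obj := pairMor τ π t
    have hdata : ∀ (x : FibCat.overCat (Over.mk t) ⥤ᵇ 𝒳) (e),
        ∃ g' : (AlgSp.yon S).obj (Over.mk t) ⟶ M'.obj, g' ≫ (prod.snd : M'.obj ⟶ T.obj) = 𝟙 _ ∧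
          Nonempty (BasedFunctor.comp x π ≅ spChart (g' ≫ (prod.fst : M'.obj ⟶ M.obj))) ∧
          ptMap _ (AlgSp.Points.ofPt g' t₀) =
            Points.map Φ (Points.ofChart (FibCat.fpLift x (AlgSt.ofOverCat (Over.mk t)) e) t₀) := by
      intro x e
      let L := FibCat.fpLift x (AlgSt.ofOverCat (Over.mk t)) e
      obtain ⟨g', ⟨j⟩⟩ := exists_spChart_iso (BasedFunctor.comp L Φ)
      refine ⟨g', spChart_inj ?_, ⟨?_⟩, ?_⟩
      · exact ((whiskerR j (ofSpMap prod.snd)).symm ≪≫ whiskerL L (pairMor_snd τ π t) :)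
      · exact ((whiskerR j (ofSpMap prod.fst)).symm ≪≫ whiskerL L (pairMor_fst τ π t) :).symm
      · rw [ptMap_ofPt, ← ofChart_congr j, map_comp_ofChart]
        rfl
    obtain ⟨g₁, hs₁, ⟨j₁⟩, hp₁⟩ := hdata x₁ e₁
    obtain ⟨g₂, hs₂, ⟨j₂⟩, hp₂⟩ := hdata x₂ e₂
    have hcl : ∀ g', g' ≫ (prod.snd : M'.obj ⟶ T.obj) = 𝟙 _ →
        IsClosed ({ptMap _ (AlgSp.Points.ofPt g' t₀)} : Set (Points (ofSp M'.obj))) := fun g' hg' => by
      rw [← Set.image_singleton]
      exact (ptMap_isHomeomorph M').isClosedMap _ (kpoint_isClosed (M := M') prod.snd hc' g' hg' t₀)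
    have hΦ := continuous_map (Groth.L09.Gerbe.isAlgStack_ofSp M') Φ
    have m₁ : Points.map Φ P = ptMap _ (AlgSp.Points.ofPt g₁ t₀) := by
      have := image_closure_subset_closure_image hΦ ⟨P, hP₁, rfl⟩
      rwa [Set.image_singleton, ← hp₁, (hcl g₁ hs₁).closure_eq] at this
    have m₂ : Points.map Φ P = ptMap _ (AlgSp.Points.ofPt g₂ t₀) := by
      have := image_closure_subset_closure_image hΦ ⟨P, hP₂, rfl⟩
      rwa [Set.image_singleton, ← hp₂, (hcl g₂ hs₂).closure_eq] at this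
    have hg : g₁ = g₂ := kpoint_ext (M := M') prod.snd g₁ g₂ hs₁ hs₂ t₀
      ((ptMap_bijective _).1 (m₁.symm.trans m₂))
    subst hg
    exact Groth.L24.QuotMor.eq_of_iso (j₁ ≪≫ j₂.symm)

end Groth.L09.GoodTop

namespace Groth.L09.GoodTop

open Groth.L24.St

variable {S : Scheme.{u}} {𝒳 : AlgSt.Cat S}

theorem terminalSec_natural {a b : 𝒳.obj} (f : a ⟶ b) :
    ((AlgSp.yon S).obj (Over.mk (𝟙 S))).obj.map (𝒳.p.map f).op (ULift.up (Over.mkIdTerminal.from (𝒳.p.obj b))) =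
      ULift.up (Over.mkIdTerminal.from (𝒳.p.obj a)) :=
  congrArg ULift.up (Over.mkIdTerminal.hom_ext _ _)

/-- The structure functor to the base. -/
def toBase (𝒳 : AlgSt.Cat S) : 𝒳 ⥤ᵇ AlgSt.ofSch (Over.mk (𝟙 S)) where
  toFunctor :=
    { obj := fun a => ⟨𝒳.p.obj a, ULift.up (Over.mkIdTerminal.from (𝒳.p.obj a))⟩
      map := fun f => ⟨𝒳.p.map f, terminalSec_natural f⟩
      map_id := fun a => Stk.EltObj.hom_ext (𝒳.p.map_id a)
      map_comp := fun f g => Stk.EltObj.hom_ext (𝒳.p.map_comp f g) }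
  w := rfl

theorem hom_eq_of_overId {N : AlgSp.Sp S} {a b : (ofSp N).obj} (u v : a ⟶ b) (hu : OverId u) (hv : OverId v) :
    u = v := by
  obtain ⟨c, hcu⟩ := hu.eq
  obtain ⟨d, hdv⟩ := hv.eq
  exact Stk.EltObj.hom_ext (hcu.trans hdv.symm)

/-- Closures of two rational points meet in the stack exactly when they meet in its base change to the base. -/
theorem closure_inter_toBase_iff {k : Type u} [Field k] {𝒳 : AlgSt.Cat (Spec (CommRingCat.of k))}
    (h𝒳 : IsAlgStack Scheme.fppfPrecoverage 𝒳)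
    (x₁ x₂ : FibCat.overCat (Over.mk (𝟙 (Spec (CommRingCat.of k)))) ⥤ᵇ 𝒳) (e₁) (e₂) (t₀ : ↥(Spec (CommRingCat.of k))) :
    (closure {Points.ofChart x₁ t₀} ∩ closure {Points.ofChart x₂ t₀}).Nonempty ↔
      (closure {Points.ofChart (FibCat.fpLift (F := toBase 𝒳) (G := baseC (𝟙 (Spec (CommRingCat.of k)))) x₁
          (AlgSt.ofOverCat _) e₁) t₀} ∩
        closure {Points.ofChart (FibCat.fpLift (F := toBase 𝒳) (G := baseC (𝟙 (Spec (CommRingCat.of k)))) x₂
          (AlgSt.ofOverCat _) e₂) t₀}).Nonempty := by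
  have h𝒲 : IsAlgStack Scheme.fppfPrecoverage
      (FibCat.fp (toBase 𝒳) (baseC (𝟙 (Spec (CommRingCat.of k))))) :=
    Groth.L24.St.isAlgStack_fp h𝒳 (Groth.L09.Gerbe.isAlgStack_ofSp ⟨_, AlgSp.IsAlgSpace.yon_obj _⟩)
      (Groth.L09.Gerbe.isAlgStack_ofSp ⟨_, AlgSp.IsAlgSpace.yon_obj _⟩) _ _
  let Θ : 𝒳 ⥤ᵇ FibCat.fp (toBase 𝒳) (baseC (𝟙 (Spec (CommRingCat.of k)))) :=
    FibCat.fpLift (BasedFunctor.id 𝒳) (toBase 𝒳) (isoToBase _ _)
  have key : ∀ (x : FibCat.overCat (Over.mk (𝟙 (Spec (CommRingCat.of k)))) ⥤ᵇ 𝒳) (e),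
      Points.map Θ (Points.ofChart x t₀) = Points.ofChart (FibCat.fpLift (F := toBase 𝒳)
        (G := baseC (𝟙 (Spec (CommRingCat.of k)))) x (AlgSt.ofOverCat _) e) t₀ := by
    intro x e
    let a₀ : (FibCat.overCat (Over.mk (𝟙 (Spec (CommRingCat.of k))))).obj :=
      Over.mk (Over.homMk ((Over.mk (𝟙 (Spec (CommRingCat.of k)))).left.fromSpecResidueField t₀) rfl :
        Over.mk ((Over.mk (𝟙 (Spec (CommRingCat.of k)))).left.fromSpecResidueField t₀ ≫
          (Over.mk (𝟙 (Spec (CommRingCat.of k)))).hom) ⟶ Over.mk (𝟙 (Spec (CommRingCat.of k))))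
    apply mk_eq_of_hom
    refine (fpIsoMk (F := toBase 𝒳) (G := baseC (𝟙 (Spec (CommRingCat.of k)))) (x := Θ.obj (x.obj a₀))
      (y := (FibCat.fpLift x (AlgSt.ofOverCat _) e).obj a₀) (Iso.refl (x.obj a₀))
      (eqToIso (obj_ext_terminal (x.w_obj a₀) : (toBase 𝒳).obj (x.obj a₀) = (AlgSt.ofOverCat _).obj a₀)) ?_).hom
    have h0 : (toBase 𝒳).obj (x.obj a₀) = (AlgSt.ofOverCat _).obj a₀ := obj_ext_terminal (x.w_obj a₀)
    have hh : OverId (eqToHom h0) :=
      OverId.of_eq (congrArg (fun z => (AlgSt.ofSch (Over.mk (𝟙 (Spec (CommRingCat.of k))))).p.obj z) h0)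
        (eqToHom_map _ h0)
    exact hom_eq_of_overId _ _ (((overId_id _).map _).comp (fp_overId _)) ((fp_overId _).comp (hh.map _))
  constructor
  · rintro ⟨P, hP₁, hP₂⟩
    refine ⟨Points.map Θ P, ?_, ?_⟩
    · have := image_closure_subset_closure_image (continuous_map h𝒲 Θ) ⟨P, hP₁, rfl⟩
      rwa [Set.image_singleton, key x₁ e₁] at this
    · have := image_closure_subset_closure_image (continuous_map h𝒲 Θ) ⟨P, hP₂, rfl⟩
      rwa [Set.image_singleton, key x₂ e₂] at this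
  · rintro ⟨P, hP₁, hP₂⟩
    refine ⟨Points.map (FibCat.fpFst (toBase 𝒳) (baseC (𝟙 (Spec (CommRingCat.of k))))) P, ?_, ?_⟩
    · have := image_closure_subset_closure_image
        (continuous_map h𝒳 (FibCat.fpFst (toBase 𝒳) (baseC (𝟙 (Spec (CommRingCat.of k)))))) ⟨P, hP₁, rfl⟩
      rwa [Set.image_singleton] at this
    · have := image_closure_subset_closure_image
        (continuous_map h𝒳 (FibCat.fpFst (toBase 𝒳) (baseC (𝟙 (Spec (CommRingCat.of k)))))) ⟨P, hP₂, rfl⟩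
      rwa [Set.image_singleton] at this

end Groth.L09.GoodTop
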