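import Groth.Agent.L09.GoodTop.Separate

/-!
# Functions on a closed substack extend
-/

set_option autoImplicit false
set_option backward.isDefEq.respectTransparency false
set_option backward.isDefEq.respectTransparency.types false
set_option linter.style.haveILetI false
set_option linter.unusedVariables false
set_option linter.unusedSectionVars false

universe t u

open CategoryTheory CategoryTheory.Limits AlgebraicGeometry Opposite AlgSt StMod
open scoped TensorProduct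

noncomputable section

namespace Groth.L09.GoodTop

open Groth.L23.RelGen Groth.L09.CohAffBC Groth.L23.TwDesc

variable {S : Scheme.{u}} {𝒳 : AlgSt.Cat S} {Q : 𝒳.obj → Prop}
  (h𝒳 : IsAlgStack Scheme.fppfPrecoverage 𝒳) (hQ : IsClosedSubstack 𝒳 Q Scheme.fppfPrecoverage)
  (v : ∀ z : 𝒳.obj, Q z → Fn z) (hv : ∀ {z' z : 𝒳.obj} (φ : z' ⟶ z) (h' : Q z') (hz : Q z), fnMap φ (v z hz) = v z' h')

/-- Pairs of a function and a lift of its multiple of the given function. -/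
def liftMod (x : AObj 𝒳) : Submodule (Fn x.1) (Fn x.1 × Fn x.1) where
  carrier := {p | ∀ (z : 𝒳.obj) (φ : z ⟶ x.1) (hz : Q z), fnMap φ p.2 = fnMap φ p.1 * v z hz}
  add_mem' := fun {p q} hp hq z φ hz => by simp [hp z φ hz, hq z φ hz, add_mul]
  zero_mem' := fun z φ hz => by simp
  smul_mem' := fun r p hp z φ hz => by simp [hp z φ hz, mul_assoc]

/-- The restriction of pairs. -/
def liftRes {x' x : AObj 𝒳} (φ : x'.1 ⟶ x.1) : liftMod v x →+ liftMod v x' where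
  toFun p := ⟨(fnMap φ p.1.1, fnMap φ p.1.2), fun z ψ hz => by
    show fnMap ψ (fnMap φ p.1.2) = fnMap ψ (fnMap φ p.1.1) * _
    rw [← fn_comp, ← fn_comp]
    exact p.2 z _ hz⟩
  map_zero' := Subtype.ext (Prod.ext (map_zero _) (map_zero _))
  map_add' p q := Subtype.ext (Prod.ext (map_add _ _ _) (map_add _ _ _))

include h𝒳 hQ hv

/-- The given function lifts to affine objects. -/
theorem exists_local_lift (x : AObj 𝒳) : ∃ r : Fn x.1, ∀ (z : 𝒳.obj) (φ : z ⟶ x.1) (hz : Q z), fnMap φ r = v z hz := by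
  obtain ⟨Z, j, hj, hiff⟩ := exists_closed_iff h𝒳 hQ x.1
  haveI : IsAffine Z := isAffine_of_isAffineHom j
  have hfib := h𝒳.isStack.1
  obtain ⟨zZ, ψ, e, hψ⟩ := Groth.L23.RelGen.exists_lift hfib
    (Over.homMk j rfl : Over.mk (j ≫ (𝒳.p.obj x.1).hom) ⟶ 𝒳.p.obj x.1)
  have hb : bmap 𝒳 ψ = (eqToHom e).left ≫ j := congrArg CommaMorphism.left hψ
  have hzZ : Q zZ := (hiff zZ ψ).2 ⟨(eqToHom e).left, hb.symm⟩
  haveI : IsIso (eqToHom e).left := inferInstanceAs (IsIso ((Over.forget S).map (eqToHom e)))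
  have hsur : Function.Surjective (fnMap ψ) := fun a => by
    obtain ⟨b, hb'⟩ := (ConcreteCategory.bijective_of_isIso (eqToHom e).left.appTop).2 a
    obtain ⟨c, hc⟩ := (IsClosedImmersion.isAffine_surjective_of_isAffine j).2 b
    refine ⟨c, ?_⟩
    show (bmap 𝒳 ψ).appTop c = a
    rw [hb, Scheme.Hom.comp_appTop, CommRingCat.comp_apply]
    exact (congrArg _ hc).trans hb'
  obtain ⟨r, hr⟩ := hsur (v zZ hzZ)
  refine ⟨r, fun z φ hz => ?_⟩
  obtain ⟨l, hl⟩ := (hiff z φ).1 hz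
  have w : l ≫ j ≫ (𝒳.p.obj x.1).hom = (𝒳.p.obj z).hom := by
    exact (Category.assoc _ _ _).symm.trans ((congrArg (· ≫ (𝒳.p.obj x.1).hom) hl).trans (Over.w (𝒳.p.map φ)))
  obtain ⟨χ, -, hχ⟩ := Groth.L24.St.exists_factor hfib φ ψ
    ((Over.homMk l w : 𝒳.p.obj z ⟶ Over.mk (j ≫ (𝒳.p.obj x.1).hom)) ≫ eqToHom e.symm) (by
      rw [hψ, Category.assoc, eqToHom_trans_assoc, eqToHom_refl, Category.id_comp]
      exact Over.OverMorphism.ext hl)
  rw [← hχ, fn_comp, hr]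
  exact hv χ hz hzZ

theorem exists_liftBC {x' x : AObj 𝒳} (φ : x'.1 ⟶ x.1) (hφ : Flat (bmap 𝒳 φ)) :
    letI := (fnMap φ).toAlgebra
    ∃ E : Fn x'.1 ⊗[Fn x.1] liftMod v x ≃+ liftMod v x', ∀ r m, E (r ⊗ₜ m) = r • liftRes v φ m := by
  letI := (fnMap φ).toAlgebra
  obtain ⟨r₀, hr₀⟩ := exists_local_lift h𝒳 hQ v hv x
  have hr₁ : ∀ (z : 𝒳.obj) (ψ : z ⟶ x'.1) (hz : Q z), fnMap ψ (fnMap φ r₀) = v z hz := fun z ψ hz => by
    rw [← fn_comp]
    exact hr₀ z _ hz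
  have split : ∀ (y : AObj 𝒳) (a : Fn y.1), (∀ (z : 𝒳.obj) (ψ : z ⟶ y.1) (hz : Q z), fnMap ψ a = v z hz) →
      ∃ e : (Fn y.1 × vanIdeal Q y.1) ≃ₗ[Fn y.1] liftMod v y, ∀ c i, (e (c, i)).1 = (c, c * a + i.1) := by
    intro y a ha
    refine ⟨{ toFun := fun p => ⟨(p.1, p.1 * a + p.2.1), fun z ψ hz => by
                show fnMap ψ (p.1 * a + p.2.1) = fnMap ψ p.1 * v z hz
                rw [map_add, map_mul, ha z ψ hz, mem_vanIdeal.1 p.2.2 z ψ hz, add_zero]⟩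
              map_add' := fun p q => Subtype.ext (Prod.ext rfl (by
                show (p.1 + q.1) * a + (p.2.1 + q.2.1) = (p.1 * a + p.2.1) + (q.1 * a + q.2.1)
                ring))
              map_smul' := fun r p => Subtype.ext (Prod.ext rfl (by
                show r * p.1 * a + r * p.2.1 = r * (p.1 * a + p.2.1)
                ring))
              invFun := fun p => (p.1.1, ⟨p.1.2 - p.1.1 * a, mem_vanIdeal.2 fun z ψ hz => by
                rw [map_sub, map_mul, ha z ψ hz, p.2 z ψ hz, sub_self]⟩)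
              left_inv := fun p => Prod.ext rfl (Subtype.ext (add_sub_cancel_left _ _))
              right_inv := fun p => Subtype.ext (Prod.ext rfl (add_sub_cancel _ _)) }, fun c i => rfl⟩
  obtain ⟨e, he⟩ := split x r₀ hr₀
  obtain ⟨e', he'⟩ := split x' (fnMap φ r₀) hr₁
  obtain ⟨E₂, hE₂⟩ := exists_vanBC h𝒳 hQ φ hφ
  let E₁ := ((TensorProduct.prodRight (Fn x.1) (Fn x.1) (Fn x'.1) (Fn x.1) (vanIdeal Q x.1)).toAddEquiv.trans
    (AddEquiv.prodCongr (TensorProduct.rid (Fn x.1) (Fn x'.1)).toAddEquiv E₂))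
  refine ⟨((TensorProduct.congr (LinearEquiv.refl (Fn x.1) (Fn x'.1)) e.symm).toAddEquiv.trans E₁).trans
    e'.toAddEquiv, fun r m => ?_⟩
  obtain ⟨⟨c, i⟩, rfl⟩ := e.surjective m
  show e' (E₁ (r ⊗ₜ e.symm (e (c, i)))) = _
  rw [e.symm_apply_apply]
  show e' (c • r, E₂ (r ⊗ₜ i)) = _
  rw [hE₂]
  refine Subtype.ext ?_
  rw [he']
  show _ = r • ((fnMap φ (e (c, i)).1.1, fnMap φ (e (c, i)).1.2) : Fn x'.1 × Fn x'.1)
  rw [he, Algebra.smul_def]
  refine Prod.ext ?_ ?_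
  · show fnMap φ c * r = r * fnMap φ c
    ring
  · show fnMap φ c * r * fnMap φ r₀ + r * fnMap φ i.1 = r * fnMap φ (c * r₀ + i.1)
    rw [map_add, map_mul]
    ring

/-- The datum of pairs. -/
def liftDatum : FlatDatum 𝒳 where
  H x := ModuleCat.of (Fn x.1) (liftMod v x)
  res φ := liftRes v φ
  res_smul φ r m := Subtype.ext (Prod.ext (map_mul _ _ _) (map_mul _ _ _))
  res_comp ψ φ m := Subtype.ext (Prod.ext (fn_comp _ _ _).symm (fn_comp _ _ _).symm)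
  bc φ hφ := exists_liftBC h𝒳 hQ v hv φ hφ

/-- When surjections induce surjections on global sections, functions on a closed substack extend. -/
theorem exists_extend (C : FlatChart.{t} 𝒳)
    (hsur : ∀ ⦃A B : QCoh 𝒳⦄ (u : A ⟶ B), Mod.IsSurj u.hom → Function.Surjective (Mod.globSectMap u.hom)) :
    ∃ b : (O 𝒳).GlobSect, ∀ (x : AObj 𝒳) (hx : Q x.1), fnAt b x.1 = v x.1 hx := by
  let D := liftDatum h𝒳 hQ v hv
  let e₁ : ∀ x : AObj 𝒳, D.H x →ₗ[Fn x.1] Fn x.1 := fun x =>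
    LinearMap.fst (Fn x.1) _ _ ∘ₗ (liftMod v x).subtype
  let e₂ : ∀ x : AObj 𝒳, D.H x →ₗ[Fn x.1] Fn x.1 := fun x =>
    LinearMap.snd (Fn x.1) _ _ ∘ₗ (liftMod v x).subtype
  obtain ⟨u₁, hu₁⟩ := exists_valMap C D e₁ fun φ m => rfl
  obtain ⟨u₂, hu₂⟩ := exists_valMap C D e₂ fun φ m => rfl
  have hus : Mod.IsSurj u₁.hom := by
    intro x hx
    obtain ⟨𝒰, -⟩ := exists_pcov (P := C.pieces) hx
    refine surjective_of_cover_mod (C.qcoh D).property.1 (C.qcoh D).property.2 (OQ 𝒳).property.1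
      (OQ 𝒳).property.2 u₁.hom ⟨x, hx⟩ 𝒰.toCover fun l m => ?_
    let j := 𝒰.j l
    obtain ⟨r₀, hr₀⟩ := exists_local_lift h𝒳 hQ v hv (C.x j.i)
    obtain ⟨s, hs⟩ := (C.eps_bijective D (x := C.x j.i) (i := j.i) (𝟙 _) (by rw [bmap_id]; infer_instance)).2
      (⟨(1, r₀), fun z φ hz => by simp [hr₀ z φ hz]⟩ : liftMod v (C.x j.i))
    refine ⟨(show Fn j.y.1 from m) • (C.qcoh D).obj.mapTop j.p s, ?_⟩
    refine (hu₁ j.y _).trans ?_
    rw [C.eps_smul, map_smul, C.eps_mapTop D (x' := j.y) (x := C.x j.i) j.p s, hs]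
    show (show Fn j.y.1 from m) * fnMap j.p 1 = (show Fn j.y.1 from m)
    rw [map_one, mul_one]
  let one : (O 𝒳).GlobSect := ⟨fun ξ => (1 : Γ(sch 𝒳 ξ, ⊤)), fun ξ' ξ φ => map_one (bmap 𝒳 φ).appTop.hom⟩
  obtain ⟨s, hs⟩ := hsur u₁ hus one
  refine ⟨Mod.globSectMap u₂.hom s, fun x hx => ?_⟩
  have h1 : asFn x.1 ((u₁.hom.app x.1).app ⊤ (s.1 x.1)) = 1 := congrFun (congrArg Subtype.val hs) x.1
  rw [hu₁] at h1
  have h2 := (C.eps D x (s.1 x.1)).2 x.1 (𝟙 _) hx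
  rw [show fnMap (𝟙 x.1) = RingHom.id _ by rw [fnMap, bmap_id, Scheme.Hom.id_appTop]; rfl] at h2
  simp only [RingHom.id_apply] at h2
  show asFn x.1 ((u₂.hom.app x.1).app ⊤ (s.1 x.1)) = _
  rw [hu₂]
  show (C.eps D x (s.1 x.1)).1.2 = _
  rw [h2]
  show e₁ x (C.eps D x (s.1 x.1)) * _ = _
  rw [h1, one_mul]

end Groth.L09.GoodTop
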