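import Groth.Agent.L09.GoodTop.Closed
import Groth.Agent.L24.QuotMor.Desc

/-!
# A good moduli space is universal for maps to schemes
-/

set_option autoImplicit false
set_option backward.isDefEq.respectTransparency false
set_option backward.isDefEq.respectTransparency.types false
set_option linter.style.haveILetI false
set_option linter.unusedVariables false
set_option linter.unusedSectionVars false

universe u

open CategoryTheory CategoryTheory.Limits AlgebraicGeometry Opposite AlgSt StMod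

noncomputable section

namespace Groth.L09.GoodTop

open Groth.L24.St Groth.L09.CohAffBC

variable {S : Scheme.{u}}

theorem objMap_congr {𝒵 : AlgSt.Cat S} {U : Over S} {φ φ' : 𝒵 ⥤ᵇ FibCat.overCat U} (e : φ ≅ φ') (x : 𝒵.obj) :
    objMap φ x = objMap φ' x := by
  let i := appIso e x
  obtain ⟨d, hd⟩ := (overId_of_lift (BasedNatTrans.isHomLift e.hom (a := x) rfl) : OverId i.hom).eq
  have hd' : i.hom.left = eqToHom d := hd
  have hw := Over.w i.hom
  rw [hd'] at hw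
  show (eqToHom _ ≫ (φ.obj x).hom).left = _
  rw [← hw, eqToHom_trans_assoc]
  rfl

variable {𝒳 : AlgSt.Cat S} {M : AlgSp.Space S} (π : 𝒳 ⥤ᵇ AlgSt.ofSp M.obj) {Z : Over S} (ψ : 𝒳 ⥤ᵇ AlgSt.ofSch Z)

/-- The map to the scheme on a base change. -/
abbrev sideMap {U : Over S} (g : (AlgSp.yon S).obj U ⟶ M.obj) :
    FibCat.fp (AlgSt.ofSpMap g) π ⥤ᵇ FibCat.overCat Z :=
  BasedFunctor.comp (FibCat.fpSnd (AlgSt.ofSpMap g) π) (BasedFunctor.comp ψ (toOverCat Z))

/-- The composite of the base change with `f` is the given map. -/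
def Desc {U : Over S} (g : (AlgSp.yon S).obj U ⟶ M.obj) (f : U.left ⟶ Z.left) : Prop :=
  ∀ z, objMap (bcMap π g) z ≫ f = objMap (sideMap π ψ g) z

/-- Change of the base of a fibre product. -/
abbrev bcFunctor {U U' : Over S} (k : U' ⟶ U) (g : (AlgSp.yon S).obj U ⟶ M.obj) :
    FibCat.fp (AlgSt.ofSpMap ((AlgSp.yon S).map k ≫ g)) π ⥤ᵇ FibCat.fp (AlgSt.ofSpMap g) π :=
  FibCat.fpLift
    (BasedFunctor.comp (FibCat.fpFst (AlgSt.ofSpMap ((AlgSp.yon S).map k ≫ g)) π)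
      (AlgSt.ofSpMap ((AlgSp.yon S).map k)))
    (FibCat.fpSnd (AlgSt.ofSpMap ((AlgSp.yon S).map k ≫ g)) π)
    ((FibCat.fpIso (AlgSt.ofSpMap ((AlgSp.yon S).map k ≫ g)) π) :)

theorem bmap_objMap_assoc {𝒵 : AlgSt.Cat S} {U : Over S} (φ : 𝒵 ⥤ᵇ FibCat.overCat U) {x' x : 𝒵.obj}
    (m : x' ⟶ x) {Y : Scheme.{u}} (f : U.left ⟶ Y) : bmap 𝒵 m ≫ objMap φ x ≫ f = objMap φ x' ≫ f := by
  rw [← Category.assoc, bmap_objMap]

theorem bc_bcFunctor {U U' : Over S} (k : U' ⟶ U) (g : (AlgSp.yon S).obj U ⟶ M.obj)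
    (z : (FibCat.fp (AlgSt.ofSpMap ((AlgSp.yon S).map k ≫ g)) π).obj) :
    objMap (bcMap π g) ((bcFunctor π k g).obj z) = objMap (bcMap π ((AlgSp.yon S).map k ≫ g)) z ≫ k.left := by
  show (eqToHom _ ≫ z.obj.fst.sec.down ≫ k).left = (eqToHom _ ≫ z.obj.fst.sec.down).left ≫ k.left
  simp

variable {π ψ}

theorem Desc.comp {U U' : Over S} {g : (AlgSp.yon S).obj U ⟶ M.obj} {f : U.left ⟶ Z.left} (hf : Desc π ψ g f)
    (k : U' ⟶ U) : Desc π ψ ((AlgSp.yon S).map k ≫ g) (k.left ≫ f) := fun z => by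
  rw [← Category.assoc, ← bc_bcFunctor]
  exact hf _

variable (π ψ)

/-- The object of a base change given by an object over the base. -/
def selfObj (x : 𝒳.obj) : (FibCat.fp (AlgSt.ofSpMap
    ((AlgSp.J S).uliftYonedaEquiv.symm (AlgSt.fibSec π ⟨x, rfl⟩) : (AlgSp.yon S).obj (𝒳.p.obj x) ⟶ M.obj)) π).obj :=
  ⟨{ fst := ⟨𝒳.p.obj x, ⟨𝟙 _⟩⟩
     snd := x
     iso :=
      { hom := ⟨eqToHom (π.w_obj x).symm, by
          show M.obj.obj.map _ (π.obj x).sec = M.obj.obj.map (𝟙 (𝒳.p.obj x)).op (AlgSt.fibSec π ⟨x, rfl⟩)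
          simp [AlgSt.fibSec]⟩
        inv := ⟨eqToHom (π.w_obj x), by
          show M.obj.obj.map (eqToHom _).op (M.obj.obj.map (𝟙 (𝒳.p.obj x)).op (AlgSt.fibSec π ⟨x, rfl⟩)) = (π.obj x).sec
          simp [AlgSt.fibSec]⟩
        hom_inv_id := Stk.EltObj.hom_ext (eqToHom_trans (π.w_obj x).symm (π.w_obj x))
        inv_hom_id := Stk.EltObj.hom_ext (eqToHom_trans (π.w_obj x) (π.w_obj x).symm) } },
    by
      refine OverId.lift ?_ rfl
      exact OverId.of_eq (π.w_obj x).symm rfl⟩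

/-- An object of a base change whose map factors gives an object of the smaller base change. -/
theorem exists_lift_obj {U U' : Over S} (k : U' ⟶ U) (g : (AlgSp.yon S).obj U ⟶ M.obj)
    (z : (FibCat.fp (AlgSt.ofSpMap g) π).obj) (k' : sch _ z ⟶ U'.left)
    (hk : k' ≫ k.left = objMap (bcMap π g) z) :
    ∃ z₁ : (FibCat.fp (AlgSt.ofSpMap ((AlgSp.yon S).map k ≫ g)) π).obj, ∃ e : sch _ z ⟶ sch _ z₁,
      e ≫ objMap (bcMap π ((AlgSp.yon S).map k ≫ g)) z₁ = k' ∧
        e ≫ objMap (sideMap π ψ ((AlgSp.yon S).map k ≫ g)) z₁ = objMap (sideMap π ψ g) z := by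
  have hk' : objMap (bcMap π g) z = z.obj.fst.sec.down.left := by
    show (eqToHom _ ≫ z.obj.fst.sec.down).left = _
    simp
  let c : z.obj.fst.base ⟶ U' := Over.homMk k' (by
    have hw := Over.w z.obj.fst.sec.down
    rw [← hk', ← hk] at hw
    rw [← Over.w k]
    exact (Category.assoc _ _ _).symm.trans hw)
  have hc' : c ≫ k = z.obj.fst.sec.down := Over.OverMorphism.ext (hk.trans hk')
  let i := z.obj.iso
  refine ⟨⟨{ fst := ⟨z.obj.fst.base, ⟨c⟩⟩, snd := z.obj.snd,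
             iso :=
              { hom := ⟨i.hom.hom, by
                  refine i.hom.map_sec.trans ?_
                  show g.hom.app _ ⟨z.obj.fst.sec.down⟩ = g.hom.app _ ⟨c ≫ k⟩
                  rw [hc']⟩
                inv := ⟨i.inv.hom, by
                  refine (congrArg _ ?_).trans i.inv.map_sec
                  show g.hom.app _ ⟨c ≫ k⟩ = g.hom.app _ ⟨z.obj.fst.sec.down⟩
                  rw [hc']⟩
                hom_inv_id := Stk.EltObj.hom_ext (congrArg (fun t => t.hom) i.hom_inv_id :)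
                inv_hom_id := Stk.EltObj.hom_ext (congrArg (fun t => t.hom) i.inv_hom_id :) } }, ?_⟩, 𝟙 _, ?_, ?_⟩
  · obtain ⟨d, hd⟩ := (overId_of_lift z.property : OverId z.obj.iso.hom).eq
    refine OverId.lift ?_ rfl
    exact OverId.of_eq d hd
  · show 𝟙 _ ≫ (eqToHom _ ≫ c).left = k'
    simp [c]
  · show 𝟙 _ ≫ _ = _
    rw [Category.id_comp]
    rfl

theorem fibSec_comp {N : AlgSp.Sp S} (g : M.obj ⟶ N) (x : 𝒳.obj) :
    AlgSt.fibSec (BasedFunctor.comp π (AlgSt.ofSpMap g)) ⟨x, rfl⟩ = g.hom.app _ (AlgSt.fibSec π ⟨x, rfl⟩) :=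
  (NatTrans.naturality_apply g.hom (eqToHom (π.w_obj x).symm).op (π.obj x).sec).symm

theorem desc_of_comp_eq {g' : M.obj ⟶ (AlgSp.yon S).obj Z} (hg' : BasedFunctor.comp π (AlgSt.ofSpMap g') = ψ)
    {U : Over S} (g : (AlgSp.yon S).obj U ⟶ M.obj) (c : U ⟶ Z) (hc : g ≫ g' = (AlgSp.yon S).map c) :
    Desc π ψ g c.left := fun z => by
  have e : BasedFunctor.comp (BasedFunctor.comp (FibCat.fpFst (AlgSt.ofSpMap g) π)
      (AlgSt.ofSpMap (g ≫ g'))) (toOverCat Z) ≅ sideMap π ψ g :=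
    whiskerR (whiskerR (FibCat.fpIso (AlgSt.ofSpMap g) π) (AlgSt.ofSpMap g') :) (toOverCat Z) ≪≫
      eqToIso (congrArg (fun F => BasedFunctor.comp (BasedFunctor.comp (FibCat.fpSnd _ π) F) (toOverCat Z))
        (show BasedFunctor.comp π (AlgSt.ofSpMap g') = ψ from hg'))
  rw [← objMap_congr e, hc]
  show (eqToHom _ ≫ z.obj.fst.sec.down).left ≫ c.left = (eqToHom _ ≫ z.obj.fst.sec.down ≫ c).left
  simp

variable (h𝒳 : IsAlgStack Scheme.fppfPrecoverage 𝒳)
  (hc : CompactFibres M.obj) (hqc : AlgSt.IsQuasiCompactMor Scheme.fppfPrecoverage π)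
  (hqs : AlgSt.IsQuasiSeparatedMor π) (h : IsGoodModuli π)
include h𝒳 hc hqc hqs h

omit ψ in
/-- Morphisms out of the base are determined by the composites with a base change. -/
theorem ext_of_objMap {U : Over S} (g : (AlgSp.yon S).obj U ⟶ M.obj) {Y : Scheme.{u}} (f₁ f₂ : U.left ⟶ Y)
    (hf : ∀ z, objMap (bcMap π g) z ≫ f₁ = objMap (bcMap π g) z ≫ f₂) : f₁ = f₂ := by
  have hpt : ∀ t, f₁ t = f₂ t := fun t => by
    obtain ⟨Q, hQ⟩ := isSurjective_of_good π h𝒳 hc hqc hqs h (Points.ofChart (spChart g) t)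
    obtain ⟨P, hP, -⟩ := exists_lift_pt π h𝒳.isStack.1 g Q t hQ
    obtain ⟨p, rfl⟩ := Points.mk_surjective P
    rw [img_mk] at hP
    rw [← hP, ← Scheme.Hom.comp_apply, ← Scheme.Hom.comp_apply, Category.assoc, Category.assoc, hf]
  have hloc : ∀ t, ∃ V : U.left.Opens, t ∈ V ∧ V.ι ≫ f₁ = V.ι ≫ f₂ := fun t => by
    obtain ⟨W, hW, htW, -⟩ := exists_isAffineOpen_mem_and_subset (show f₁ t ∈ (⊤ : Y.Opens) from trivial)
    obtain ⟨V, hV, htV, hVW⟩ := exists_isAffineOpen_mem_and_subset (show t ∈ f₁ ⁻¹ᵁ W from htW)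
    refine ⟨V, htV, ?_⟩
    let U' : Over S := Over.mk (V.ι ≫ U.hom)
    let j : U' ⟶ U := Over.homMk V.ι rfl
    have hU' : IsAffine U'.left := hV
    have H := affGood_fp h𝒳 hc π hqc hqs h hU' ((AlgSp.yon S).map j ≫ g)
    have hr₁ : Set.range (V.ι ≫ f₁) ⊆ Set.range W.ι := by
      rintro _ ⟨v, rfl⟩
      rw [Scheme.Opens.range_ι]
      exact hVW v.2
    have hr₂ : Set.range (V.ι ≫ f₂) ⊆ Set.range W.ι := by
      rintro _ ⟨v, rfl⟩
      rw [Scheme.Opens.range_ι, Scheme.Hom.comp_apply, ← hpt]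
      exact hVW v.2
    rw [← IsOpenImmersion.lift_fac W.ι _ hr₁, ← IsOpenImmersion.lift_fac W.ι _ hr₂]
    congr 1
    haveI : IsAffine W.toScheme := hW
    refine ext_of_isAffine ?_
    ext b
    refine sub_eq_zero.1 (H.inj _ fun z => ?_)
    rw [map_sub, sub_eq_zero]
    refine (CommRingCat.comp_apply _ _ _).symm.trans (Eq.trans ?_ (CommRingCat.comp_apply _ _ _))
    rw [← Scheme.Hom.comp_appTop, ← Scheme.Hom.comp_appTop]
    congr 3
    rw [← cancel_mono W.ι, Category.assoc, Category.assoc, IsOpenImmersion.lift_fac, IsOpenImmersion.lift_fac,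
      ← Category.assoc, ← Category.assoc, show objMap (bcMap π ((AlgSp.yon S).map j ≫ g)) z ≫ V.ι = _ from
        (bc_bcFunctor π j g z).symm]
    exact hf _
  choose V htV hV using hloc
  have hcov : TopologicalSpace.IsOpenCover V :=
    eq_top_iff.2 fun t _ => TopologicalSpace.Opens.mem_iSup.2 ⟨t, htV t⟩
  exact (U.left.openCoverOfIsOpenCover _ hcov).hom_ext _ _ hV

theorem Desc.unique {U : Over S} {g : (AlgSp.yon S).obj U ⟶ M.obj} {f₁ f₂ : U.left ⟶ Z.left}
    (h₁ : Desc π ψ g f₁) (h₂ : Desc π ψ g f₂) : f₁ = f₂ :=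
  ext_of_objMap π h𝒳 hc hqc hqs h g f₁ f₂ fun z => (h₁ z).trans (h₂ z).symm

/-- The map exists on an affine base all of whose objects map into one affine open. -/
theorem exists_desc_affine {U : Over S} (hU : IsAffine U.left) (g : (AlgSp.yon S).obj U ⟶ M.obj) {W : Z.left.Opens}
    (hW : IsAffineOpen W) (hin : ∀ z, Set.range (objMap (sideMap π ψ g) z) ⊆ Set.range W.ι) :
    ∃ f, Desc π ψ g f := by
  haveI : IsAffine W.toScheme := hW
  have H := affGood_fp h𝒳 hc π hqc hqs h hU g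
  let l : ∀ z, sch _ z ⟶ W.toScheme := fun z => IsOpenImmersion.lift W.ι (objMap (sideMap π ψ g) z) (hin z)
  have hl : ∀ {z' z} (m : z' ⟶ z), bmap _ m ≫ l z = l z' := fun m => by
    rw [← cancel_mono W.ι, Category.assoc, IsOpenImmersion.lift_fac, IsOpenImmersion.lift_fac, bmap_objMap]
  have hex : ∀ b : Γ(W.toScheme, ⊤), ∃ r, ∀ z, (objMap (bcMap π g) z).appTop r = (l z).appTop b := fun b => by
    obtain ⟨r, hr⟩ := H.ex ⟨fun z => (l z).appTop b, fun z' z m => by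
      refine Eq.trans ?_ (congrArg (fun t => (Scheme.Hom.appTop t) b) (hl m))
      rw [Scheme.Hom.comp_appTop]
      rfl⟩
    exact ⟨r, fun z => (hr z).symm⟩
  choose r hr using hex
  have huni : ∀ a b, (∀ z, (objMap (bcMap π g) z).appTop a = (objMap (bcMap π g) z).appTop b) → a = b := fun a b hab =>
    sub_eq_zero.1 (H.inj _ fun z => by rw [map_sub, hab, sub_self])
  let φ : Γ(W.toScheme, ⊤) →+* Γ(U.left, ⊤) :=
    { toFun := r
      map_one' := huni _ _ fun z => by rw [hr, map_one, map_one]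
      map_zero' := huni _ _ fun z => by rw [hr, map_zero, map_zero]
      map_mul' := fun a b => huni _ _ fun z => by rw [hr, map_mul, map_mul, hr, hr]
      map_add' := fun a b => huni _ _ fun z => by rw [hr, map_add, map_add, hr, hr] }
  let f₀ : U.left ⟶ W.toScheme := U.left.isoSpec.hom ≫ Spec.map (CommRingCat.ofHom φ) ≫ W.toScheme.isoSpec.inv
  have hf₀ : f₀.appTop = CommRingCat.ofHom φ := by
    show (U.left.toSpecΓ ≫ _ ≫ W.toScheme.isoSpec.inv).appTop = _
    rw [Scheme.Hom.comp_appTop, Scheme.Hom.comp_appTop, Category.assoc, Scheme.toSpecΓ_appTop]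
    have e : W.toScheme.isoSpec.inv.appTop = (Scheme.ΓSpecIso Γ(W.toScheme, ⊤)).inv := by
      rw [← Iso.comp_hom_eq_id, ← Scheme.toSpecΓ_appTop, ← Scheme.Hom.comp_appTop, Scheme.toSpecΓ_isoSpec_inv,
        Scheme.Hom.id_appTop]
    rw [e, Scheme.ΓSpecIso_naturality]
    exact Iso.inv_hom_id_assoc (Scheme.ΓSpecIso Γ(W.toScheme, ⊤)) _
  refine ⟨f₀ ≫ W.ι, fun z => ?_⟩
  rw [← Category.assoc, show objMap (bcMap π g) z ≫ f₀ = l z from ext_of_isAffine (by
    ext b
    rw [Scheme.Hom.comp_appTop, hf₀]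
    exact hr b z)]
  exact IsOpenImmersion.lift_fac _ _ _

/-- Every point of the space has a fibre mapping into one affine open. -/
theorem exists_affine_open (y : Points (AlgSt.ofSp M.obj)) :
    ∃ W : Z.left.Opens, IsAffineOpen W ∧
      y ∉ Points.map π '' (img (BasedFunctor.comp ψ (toOverCat Z)) ⁻¹' (W : Set Z.left)ᶜ) := by
  by_contra hne
  push Not at hne
  obtain ⟨q, hq⟩ := exists_toFPt y
  let T : Over S := Over.mk q.str
  haveI : Subsingleton T.left := inferInstanceAs (Subsingleton (Spec (CommRingCat.of q.K)))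
  haveI : IsAffine T.left := isAffine_Spec _
  let t : T.left := IsLocalRing.closedPoint q.K
  obtain ⟨g, hg⟩ := exists_chart_through q
  rw [hq] at hg
  let V : AlgSp.Space S := ⟨(AlgSp.yon S).obj T, AlgSp.IsAlgSpace.yon_obj T⟩
  let g' : V.obj ⟶ M.obj := g
  have h𝒵 := Groth.L24.St.isAlgStack_fp (Groth.L09.Gerbe.isAlgStack_ofSp V) h𝒳
    (Groth.L09.Gerbe.isAlgStack_ofSp M) (AlgSt.ofSpMap g') π
  haveI := compactSpace_of_isQuasiCompact h𝒵 (hqc (AlgSt.ofSp V.obj) (Groth.L09.Gerbe.isAlgStack_ofSp V)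
    ((isQuasiCompact_iff_of_isEquivOver (toOverCat_isEquivOver T)).2 (isQuasiCompact_overCat T)) (AlgSt.ofSpMap g'))
  let C : {W : Z.left.Opens // IsAffineOpen W} → Set (Points 𝒳) := fun W =>
    img (BasedFunctor.comp ψ (toOverCat Z)) ⁻¹' (W.1 : Set Z.left)ᶜ
  have hC : ∀ W, IsClosed (C W) := fun W => W.1.isOpen.isClosed_compl.preimage (continuous_img _)
  let A : {W : Z.left.Opens // IsAffineOpen W} → Set (Points (FibCat.fp (AlgSt.ofSpMap g) π)) := fun W =>
    Points.map (FibCat.fpSnd (AlgSt.ofSpMap g) π) ⁻¹' C W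
  have hA : ∀ W, IsClosed (A W) := fun W => (hC W).preimage (continuous_map h𝒳 _)
  have hfin : ∀ s : Finset {W : Z.left.Opens // IsAffineOpen W}, ∃ Q ∈ ⋂ W ∈ s, C W, Points.map π Q = y := by
    intro s
    classical
    induction s using Finset.cons_induction with
    | empty =>
      obtain ⟨Q, hQ⟩ := isSurjective_of_good π h𝒳 hc hqc hqs h y
      exact ⟨Q, by simp, hQ⟩
    | cons W s hW ih =>
      obtain ⟨Q, hQ, hQy⟩ := ih
      obtain ⟨Q', hQ', hQ'y⟩ := hne W.1 W.2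
      obtain ⟨Q'', hQ'', he⟩ := exists_mem_inter π h𝒳 hc hqc hqs h (hC W)
        (isClosed_biInter fun W' _ => hC W') hQ' hQ (hQ'y.trans hQy.symm)
      refine ⟨Q'', ?_, he.trans hQ'y⟩
      rw [Finset.cons_eq_insert, Finset.set_biInter_insert]
      exact hQ''
  obtain ⟨P, -, hP⟩ := isCompact_univ.inter_iInter_nonempty A hA fun s => by
    obtain ⟨Q, hQ, hQy⟩ := hfin s
    obtain ⟨P, -, hP⟩ := exists_lift_pt π h𝒳.isStack.1 g Q t (hQy.trans hg.symm)
    refine ⟨P, trivial, ?_⟩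
    simp only [Set.mem_iInter] at hQ ⊢
    intro W hW
    show Points.map _ P ∈ C W
    rw [hP]
    exact hQ W hW
  let z := img (BasedFunctor.comp ψ (toOverCat Z)) (Points.map (FibCat.fpSnd (AlgSt.ofSpMap g) π) P)
  obtain ⟨W, hW, hzW, -⟩ := exists_isAffineOpen_mem_and_subset (show z ∈ (⊤ : Z.left.Opens) from trivial)
  exact Set.mem_iInter.1 hP ⟨W, hW⟩ hzW

/-- The map exists on every scheme over the space. -/
theorem exists_desc {U : Over S} (g : (AlgSp.yon S).obj U ⟶ M.obj) : ∃ f, Desc π ψ g f := by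
  have hloc : ∀ t, ∃ V : U.left.Opens, t ∈ V ∧ ∃ f,
      Desc π ψ ((AlgSp.yon S).map (Over.homMk V.ι rfl : Over.mk (V.ι ≫ U.hom) ⟶ U) ≫ g) f := fun t => by
    obtain ⟨W, hW, hy⟩ := exists_affine_open π ψ h𝒳 hc hqc hqs h (Points.ofChart (spChart g) t)
    have hO : IsClosed (Points.map π '' (img (BasedFunctor.comp ψ (toOverCat Z)) ⁻¹' (W : Set Z.left)ᶜ)) :=
      isClosedMor_of_good π h𝒳 hc hqc hqs h _ (W.isOpen.isClosed_compl.preimage (continuous_img _))
    let O : U.left.Opens := ⟨_, (hO.preimage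
      (continuous_ofChart (Groth.L09.Gerbe.isAlgStack_ofSp M) (spChart g))).isOpen_compl⟩
    obtain ⟨V, hV, htV, hVO⟩ := exists_isAffineOpen_mem_and_subset (show t ∈ O from hy)
    refine ⟨V, htV, exists_desc_affine π ψ h𝒳 hc hqc hqs h (U := Over.mk (V.ι ≫ U.hom)) hV _ hW fun z => ?_⟩
    rintro _ ⟨q, rfl⟩
    rw [Scheme.Opens.range_ι]
    by_contra hz
    let g' := (AlgSp.yon S).map (Over.homMk V.ι rfl : Over.mk (V.ι ≫ U.hom) ⟶ U) ≫ g
    have hfib : FibCat.IsFibGrpd (FibCat.fp (AlgSt.ofSpMap g') π).p :=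
      Groth.L09.Fib.fp_isFibGrpd (Groth.L24.St.ofSp_isFibGrpd _) h𝒳.isStack.1 (Groth.L24.St.ofSp_isFibGrpd _)
    obtain ⟨p, m, hp⟩ := exists_fpt_at hfib z q
    have h1 : img (sideMap π ψ g') (Points.mk p) = objMap (sideMap π ψ g') z q := by
      rw [img_mk, ← bmap_objMap _ m, ← Category.assoc, Scheme.Hom.comp_apply, hp]
    refine hVO (img (bcMap π g') (Points.mk p)).2 ⟨Points.map (FibCat.fpSnd (AlgSt.ofSpMap g') π) (Points.mk p),
      show _ ∈ (W : Set Z.left)ᶜ from ?_, ?_⟩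
    · rw [← h1] at hz
      exact fun hm => hz (by
        show overPt (Points.map (BasedFunctor.comp _ _) _) ∈ W
        rw [map_comp_apply]
        exact hm)
    · exact (map_snd_eq π g' _).trans (ofChart_spChart_comp _ g _)
  choose V htV f hf using hloc
  have hcov : TopologicalSpace.IsOpenCover V :=
    eq_top_iff.2 fun t _ => TopologicalSpace.Opens.mem_iSup.2 ⟨t, htV t⟩
  let 𝒰 := U.left.openCoverOfIsOpenCover V hcov
  let j : ∀ a, Over.mk ((V a).ι ≫ U.hom) ⟶ U := fun a => Over.homMk (V a).ι rfl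
  have hfab : ∀ a b, pullback.fst (𝒰.f a) (𝒰.f b) ≫ f a = pullback.snd (𝒰.f a) (𝒰.f b) ≫ f b := by
    intro a b
    let c₁ : Over.mk (pullback.fst (V a).ι (V b).ι ≫ (V a).ι ≫ U.hom) ⟶ Over.mk ((V a).ι ≫ U.hom) :=
      Over.homMk (pullback.fst _ _) rfl
    let c₂ : Over.mk (pullback.fst (V a).ι (V b).ι ≫ (V a).ι ≫ U.hom) ⟶ Over.mk ((V b).ι ≫ U.hom) :=
      Over.homMk (pullback.snd _ _) (by
        show pullback.snd (V a).ι (V b).ι ≫ (V b).ι ≫ U.hom = pullback.fst (V a).ι (V b).ι ≫ (V a).ι ≫ U.hom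
        rw [← Category.assoc, ← pullback.condition, Category.assoc])
    have hjj : c₂ ≫ j b = c₁ ≫ j a := Over.OverMorphism.ext pullback.condition.symm
    have h₂ : Desc π ψ ((AlgSp.yon S).map c₁ ≫ (AlgSp.yon S).map (j a) ≫ g) (c₂.left ≫ f b) := by
      have e := (hf b).comp c₂
      rwa [show (AlgSp.yon S).map c₂ ≫ (AlgSp.yon S).map (j b) ≫ g =
        (AlgSp.yon S).map c₁ ≫ (AlgSp.yon S).map (j a) ≫ g by simp only [← Functor.map_comp_assoc, hjj]] at e
    exact Desc.unique π ψ h𝒳 hc hqc hqs h ((hf a).comp c₁) h₂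
  refine ⟨𝒰.glueMorphisms f hfab, fun z => ?_⟩
  · let φ := objMap (bcMap π g) z
    have hO : TopologicalSpace.IsOpenCover fun a => φ ⁻¹ᵁ V a :=
      eq_top_iff.2 fun q _ => TopologicalSpace.Opens.mem_iSup.2 ⟨φ q, htV (φ q)⟩
    refine ((sch (FibCat.fp (AlgSt.ofSpMap g) π) z).openCoverOfIsOpenCover _ hO).hom_ext _ _ fun a => ?_
    show (φ ⁻¹ᵁ V a).ι ≫ φ ≫ _ = (φ ⁻¹ᵁ V a).ι ≫ _
    have hfib : FibCat.IsFibGrpd (FibCat.fp (AlgSt.ofSpMap g) π).p :=
      Groth.L09.Fib.fp_isFibGrpd (Groth.L24.St.ofSp_isFibGrpd _) h𝒳.isStack.1 (Groth.L24.St.ofSp_isFibGrpd _)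
    obtain ⟨z', m, e, hm⟩ := Groth.L23.RelGen.exists_lift hfib
      (Over.homMk (φ ⁻¹ᵁ V a).ι rfl :
        Over.mk ((φ ⁻¹ᵁ V a).ι ≫ ((FibCat.fp (AlgSt.ofSpMap g) π).p.obj z).hom) ⟶ _)
    have hb : bmap _ m = (eqToHom e).left ≫ (φ ⁻¹ᵁ V a).ι := congrArg CommaMorphism.left hm
    have hb' : (eqToHom e.symm).left ≫ bmap _ m = (φ ⁻¹ᵁ V a).ι := by
      rw [hb, ← Category.assoc, ← Over.comp_left, eqToHom_trans, eqToHom_refl]
      exact Category.id_comp _
    have hr : Set.range (objMap (bcMap π g) z') ⊆ Set.range (V a).ι := by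
      rintro _ ⟨q, rfl⟩
      rw [Scheme.Opens.range_ι, ← bmap_objMap _ m, hb, Category.assoc, Scheme.Hom.comp_apply]
      exact ((eqToHom e).left q).2
    obtain ⟨z₁, ez, he₁, he₂⟩ := exists_lift_obj π ψ (j a) g z'
      (IsOpenImmersion.lift (V a).ι _ hr) (IsOpenImmersion.lift_fac _ _ _)
    have hk : objMap (bcMap π g) z' ≫ 𝒰.glueMorphisms f hfab = objMap (sideMap π ψ g) z' := by
      have eg : (V a).ι ≫ 𝒰.glueMorphisms f hfab = f a := 𝒰.ι_glueMorphisms f hfab a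
      rw [← IsOpenImmersion.lift_fac (V a).ι _ hr, Category.assoc, eg, ← he₁, Category.assoc, hf a z₁]
      exact he₂
    rw [← hb', Category.assoc, Category.assoc, bmap_objMap_assoc, bmap_objMap, hk]

/-- A good moduli space is universal for maps to schemes. -/
theorem existsUnique_desc : ∃! g : M.obj ⟶ (AlgSp.yon S).obj Z, BasedFunctor.comp π (AlgSt.ofSpMap g) = ψ := by
  have hover : ∀ {U : Over S} (g : (AlgSp.yon S).obj U ⟶ M.obj) (f : U.left ⟶ Z.left), Desc π ψ g f →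
      f ≫ Z.hom = U.hom := fun {U} g f hf =>
    ext_of_objMap π h𝒳 hc hqc hqs h g _ _ fun z => by
      rw [← Category.assoc, hf z]
      exact (Over.w (eqToHom ((sideMap π ψ g).w_obj z).symm ≫ ((sideMap π ψ g).obj z).hom)).trans
        (Over.w (eqToHom ((bcMap π g).w_obj z).symm ≫ ((bcMap π g).obj z).hom)).symm
  choose f hf using fun (U : Over S) (g : (AlgSp.yon S).obj U ⟶ M.obj) => exists_desc π ψ h𝒳 hc hqc hqs h g
  let F : ∀ U : Over S, M.obj.obj.obj (op U) → (U ⟶ Z) := fun U s =>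
    Over.homMk (f U ((AlgSp.J S).uliftYonedaEquiv.symm s)) (hover _ _ (hf U _))
  let G : M.obj ⟶ (AlgSp.yon S).obj Z := ObjectProperty.homMk
    { app := fun T => ↾fun s => ⟨F T.unop s⟩
      naturality := fun T T' k => by
        ext s
        apply ULift.ext
        refine Over.OverMorphism.ext (Desc.unique π ψ h𝒳 hc hqc hqs h (hf T'.unop _) ?_)
        have e := (hf T.unop ((AlgSp.J S).uliftYonedaEquiv.symm s)).comp k.unop
        rw [GrothendieckTopology.uliftYonedaEquiv_symm_naturality_left] at e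
        exact e }
  refine ⟨G, Groth.L24.QuotMor.basedFunctor_ext fun x => ?_, fun g' hg' => ?_⟩
  · rw [fibSec_comp]
    refine congrArg ULift.up (Over.OverMorphism.ext ?_)
    have e := hf _ _ (selfObj π x)
    refine Eq.trans ?_ e
    show _ = (eqToHom _ ≫ 𝟙 (𝒳.p.obj x)).left ≫ _
    simp
    rfl
  · ext T s
    apply ULift.ext
    refine Over.OverMorphism.ext (Desc.unique π ψ h𝒳 hc hqc hqs h ?_ (hf T.unop _))
    refine desc_of_comp_eq π ψ hg' _ (g'.hom.app T s).down ?_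
    rw [GrothendieckTopology.uliftYonedaEquiv_symm_naturality_right]
    refine (AlgSp.J S).uliftYonedaEquiv.injective ?_
    rw [Equiv.apply_symm_apply]
    exact ULift.ext _ _ (Category.id_comp _).symm

end Groth.L09.GoodTop
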