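import Groth.Agent.L09.GoodTop.Sep
import Groth.Agent.L09.GoodTop.Universal
import Groth.Agent.L09.Residual.Singleton
import Groth.Agent.L09.Residual.Space
import Groth.Agent.L09.Gerbe.Coarse
import Groth.Agent.L09.Gerbe.CoarseSpace
import Groth.Agent.L09.Gerbe.SheafClasses
import Groth.Agent.L23.MonoPt
import Groth.Agent.L23.Compact
import Groth.Agent.S16806
import Groth.Agent.S16868

/-!
# A one-point stack with quasi-compact fibre products is finite over a field
-/

set_option autoImplicit false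
set_option backward.isDefEq.respectTransparency false
set_option backward.isDefEq.respectTransparency.types false
set_option linter.style.haveILetI false
set_option linter.unusedVariables false
set_option linter.unusedSectionVars false

universe u

open CategoryTheory CategoryTheory.Limits AlgebraicGeometry Opposite AlgSt StMod

noncomputable section

namespace Groth.L09.GoodTop

open Groth.L24.St

variable {S : Scheme.{u}} {𝒲 𝒜 ℬ 𝒳 : AlgSt.Cat S} {N : AlgSp.Sp S}

theorem elt_hom_eq {a b : (ofSp N).obj} {u v : a ⟶ b} (hu : OverId u) (hv : OverId v) : u = v := by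
  obtain ⟨c, hc⟩ := hu.eq
  obtain ⟨d, hd⟩ := hv.eq
  exact Stk.EltObj.hom_ext (hc.trans hd.symm)

/-- Functors into a fibre product over a sheaf with isomorphic components are isomorphic. -/
def spProdIso {α : 𝒜 ⥤ᵇ ofSp N} {β : ℬ ⥤ᵇ ofSp N} {F G : 𝒲 ⥤ᵇ FibCat.fp α β}
    (i : BasedFunctor.comp F (FibCat.fpFst _ _) ≅ BasedFunctor.comp G (FibCat.fpFst _ _))
    (j : BasedFunctor.comp F (FibCat.fpSnd _ _) ≅ BasedFunctor.comp G (FibCat.fpSnd _ _)) : F ≅ G :=
  mkIso2 (fun w => fpIsoMk (appIso i w) (appIso j w)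
      (elt_hom_eq (((overId_app i.hom w).map α).comp (fp_overId _))
        ((fp_overId _).comp ((overId_app j.hom w).map β))))
    (fun w w' m => fp_ext (i.hom.toNatTrans.naturality m) (j.hom.toNatTrans.naturality m))
    (fun w => overId_fp _ (overId_app i.hom w))

theorem objMap_comp_functor {U : Over S} (z : 𝒲 ⥤ᵇ 𝒳) (f : 𝒳 ⥤ᵇ FibCat.overCat U) (w : 𝒲.obj) :
    objMap (BasedFunctor.comp z f) w = (eqToHom (z.w_obj w).symm).left ≫ objMap f (z.obj w) := by
  show (eqToHom ((BasedFunctor.comp z f).w_obj w).symm ≫ (f.obj (z.obj w)).hom).left =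
    (eqToHom (z.w_obj w).symm).left ≫ (eqToHom (f.w_obj (z.obj w)).symm ≫ (f.obj (z.obj w)).hom).left
  rw [← Over.comp_left, eqToHom_trans_assoc]

/-- Compactness of a fibre product descends along a surjection of a factor. -/
theorem compactSpace_fp_left (hA : IsAlgStack Scheme.fppfPrecoverage 𝒜) {M : AlgSp.Space S} (hB : IsAlgStack Scheme.fppfPrecoverage ℬ)
    (h𝒳 : IsAlgStack Scheme.fppfPrecoverage 𝒳) (b : 𝒳 ⥤ᵇ 𝒜) (hb : IsSurjective b) (g : 𝒜 ⥤ᵇ ofSp M.obj)
    (f : ℬ ⥤ᵇ ofSp M.obj) (hc : CompactSpace (Points (FibCat.fp (BasedFunctor.comp b g) f))) :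
    CompactSpace (Points (FibCat.fp g f)) := by
  have hM := Groth.L09.Gerbe.isAlgStack_ofSp M
  let D : FibCat.fp (BasedFunctor.comp b g) f ⥤ᵇ FibCat.fp g f :=
    FibCat.fpLift (BasedFunctor.comp (FibCat.fpFst _ _) b) (FibCat.fpSnd _ _)
      (FibCat.fpIso (BasedFunctor.comp b g) f :)
  have hfp := Groth.L24.St.isAlgStack_fp hA hB hM g f
  have i : BasedFunctor.comp (fpPaste b g f) D ≅ FibCat.fpSnd b (FibCat.fpFst g f) :=
    spProdIso (FibCat.fpIso b (FibCat.fpFst g f) :)
      (Iso.refl (BasedFunctor.comp (FibCat.fpSnd b (FibCat.fpFst g f)) (FibCat.fpSnd g f)) :)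
  have hs : Function.Surjective (Points.map D) := fun P => by
    obtain ⟨x, hx⟩ := hb (Points.map (FibCat.fpFst g f) P)
    obtain ⟨w, -, hw⟩ := exists_points_fp hfp.isStack.1 hA.isStack.1 h𝒳.isStack.1 (FibCat.fpFst g f) b x P hx
    exact ⟨Points.map (fpPaste b g f) w, by rw [← map_comp_apply, map_congr i, hw]⟩
  exact hs.compactSpace (continuous_map hfp D)

/-- A gerbe identifies fibre products of charts on points. -/
theorem isSurjective_fpPost {Z : AlgSp.Sp S} {π : 𝒳 ⥤ᵇ ofSp Z} (h𝒳 : FibCat.IsFibGrpd 𝒳.p)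
    (hπ : Gerb.LocSurjHom (QuotSh.J Scheme.fppfPrecoverage S) π) {A B : Over S} (a : FibCat.overCat A ⥤ᵇ 𝒳)
    (b : FibCat.overCat B ⥤ᵇ 𝒳) : IsSurjective (fpPost a b π) := by
  intro P
  obtain ⟨q, rfl⟩ := Points.mk_surjective P
  let Ω := AlgebraicClosure q.K
  let t : Spec (CommRingCat.of Ω) ⟶ S := Spec.map (CommRingCat.ofHom (algebraMap q.K Ω)) ≫ q.str
  let c : Over.mk t ⟶ (FibCat.fp (BasedFunctor.comp a π) (BasedFunctor.comp b π)).p.obj q.obj :=
    (Over.homMk (Spec.map (CommRingCat.ofHom (algebraMap q.K Ω))) rfl : Over.mk t ⟶ Over.mk q.str) ≫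
      eqToHom q.lies.symm
  obtain ⟨w, m, e, -⟩ := Groth.L23.RelGen.exists_lift
    (Groth.L09.Fib.fp_isFibGrpd (overCat_isFibGrpd A) (overCat_isFibGrpd B) (ofSp_isFibGrpd Z)) c
  let x := a.obj w.obj.fst
  have hx : 𝒳.p.obj x = Over.mk t := (a.w_obj w.obj.fst).trans e
  obtain ⟨R, hR, hR'⟩ := hπ x (b.obj w.obj.snd) w.obj.iso.hom (by
    exact (fp_overId w).lift (((BasedFunctor.comp a π).w_obj w.obj.fst).trans (a.w_obj w.obj.fst).symm))
  have hid := Groth.L09.Gerbe.covering_id ((QuotSh.J Scheme.fppfPrecoverage S).pullback_stable (eqToHom hx.symm) hR)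
  rw [Sieve.pullback_apply, Category.id_comp] at hid
  obtain ⟨x₀, φ, ψ, hφ, hψ, hcomp⟩ := hR' (eqToHom hx.symm) hid
  have := Groth.L09.Fib.isIso_of_isFibGrpd _ h𝒳 (eqToHom hx.symm) φ
  have := Groth.L09.Fib.isIso_of_isFibGrpd _ h𝒳 (eqToHom hx.symm) ψ
  let k : x ≅ b.obj w.obj.snd := (asIso φ).symm ≪≫ asIso ψ
  have hkπ : π.map k.hom = w.obj.iso.hom := by
    show π.map (inv φ ≫ ψ) = _
    rw [π.toFunctor.map_comp, Functor.map_inv, IsIso.inv_comp_eq]
    exact hcomp.symm
  have hk : OverId k.hom := by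
    obtain ⟨d, hd⟩ := (fp_overId w).eq
    refine OverId.of_eq ((π.w_obj _).symm.trans (d.trans (π.w_obj _))) ?_
    have h1 := p_map_map π k.hom
    rw [hkπ, hd] at h1
    have h2 : (eqToHom (π.w_obj x) ≫ 𝒳.p.map k.hom ≫ eqToHom (π.w_obj _).symm) = eqToHom d := h1.symm
    rw [← cancel_epi (eqToHom (π.w_obj x)), ← cancel_mono (eqToHom (π.w_obj (b.obj w.obj.snd)).symm), Category.assoc, h2]
    simp
  let v : (FibCat.fp a b).obj :=
    ⟨{ fst := w.obj.fst, snd := w.obj.snd, iso := k }, hk.lift (a.w_obj w.obj.fst)⟩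
  have i : (fpPost a b π).obj v ≅ w :=
    fpIsoMk (Iso.refl _) (Iso.refl _) (elt_hom_eq (((overId_id _).map (BasedFunctor.comp a π)).comp (fp_overId w))
      ((fp_overId _).comp ((overId_id _).map (BasedFunctor.comp b π))))
  refine ⟨Points.mk { K := Ω, str := t, obj := v, lies := e }, ?_⟩
  exact (mk_eq_of_hom (q := q) (p := ⟨Ω, t, _, ((fpPost a b π).w_obj v).trans e⟩) (i.hom ≫ m) :)

/-- A reduced locally Noetherian one-point stack with quasi-compact fibre products has a point finite over a field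
through which it maps. -/
theorem exists_finite_field_point {𝒢 : AlgSt.Cat S} (h𝒢 : IsAlgStack Scheme.fppfPrecoverage 𝒢)
    (hred : SmoothLocally (fun T => IsReduced T) 𝒢) (hN : SmoothLocally (fun T => IsLocallyNoetherian T) 𝒢)
    (hne : Nonempty (Points 𝒢)) (hsub : Subsingleton (Points 𝒢))
    (hcp : ∀ (A : Over S), IsAffine A.left → ∀ a : FibCat.overCat A ⥤ᵇ 𝒢, CompactSpace (Points (FibCat.fp a a))) :
    ∃ (L : Type u) (_ : Field L) (strL : Spec (CommRingCat.of L) ⟶ S) (x : 𝒢.obj) (K₀ : Over S)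
      (f : 𝒢 ⥤ᵇ FibCat.overCat K₀), 𝒢.p.obj x = Over.mk strL ∧ IsAffine K₀.left ∧ IsFinite (objMap f x) := by
  obtain ⟨L, _, strL, z, hzp, hzs, hzf⟩ := (Groth.Agent.S16806.result S 𝒢 h𝒢).1 ⟨hred, hN, hne, hsub⟩
  obtain ⟨Z, π, hπ, hZr, hZN, hZne, hZsub⟩ := Groth.Agent.S16868.result S 𝒢 h𝒢 hred hN hne hsub
  let PL : Over S := Over.mk strL
  have hL := isAlgStack_overCat PL
  have hZ := Groth.L09.Gerbe.isAlgStack_ofSp Z
  haveI : Subsingleton (Points (ofSp Z.obj)) := (Groth.L09.Residual.subsingleton_ofSp_iff Z.obj).2 hZsub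
  let y := BasedFunctor.comp z π
  obtain ⟨g, ⟨iy⟩⟩ := exists_spChart_iso y
  have hzF : Groth.L09.Gerbe.IsFF z := ⟨Groth.L24.LocQ.locQ_of_repWith_locP Groth.L23.etLocal_flat hL h𝒢 hzf,
    Groth.L24.LocQ.locQ_of_repWith_locP Groth.L23.etLocal_lfp hL h𝒢 hzp⟩
  have hyF : Groth.L09.Gerbe.IsFF y := hzF.comp hL h𝒢 hZ (Groth.L09.Gerbe.isFF_of_gerbe h𝒢 hZ hπ)
  have hyr := Groth.L09.FieldPt.rep1_overCat hZ y
  have hgf : AlgSp.LocP @Flat g := (Groth.L09.Residual.locP_spChart_iff Groth.L23.etLocal_flat Z.property g).1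
    ((repWith_congr iy).1 (Groth.L24.LocQ.repWith_of_locQ Groth.L24.LocQ.isSmoothLocalST_flat
      (pBase_locP Groth.L23.etLocal_flat) (Groth.L24.St.isLocalOnBase_locP_fppf Groth.L23.etLocal_flat)
      hL hZ hyr hyF.1))
  have hgp : AlgSp.LocP @LocallyOfFinitePresentation g :=
    (Groth.L09.Residual.locP_spChart_iff Groth.L23.etLocal_lfp Z.property g).1
    ((repWith_congr iy).1 (Groth.L24.LocQ.repWith_of_locQ Groth.L24.LocQ.isSmoothLocalST_lfp
      (pBase_locP Groth.L23.etLocal_lfp) (Groth.L24.St.isLocalOnBase_locP_fppf Groth.L23.etLocal_lfp)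
      hL hZ hyr hyF.2))
  let t₀ : PL.left := IsLocalRing.closedPoint L
  have hgs : AlgSp.IsSurjectiveMor g := fun P => ⟨AlgSp.Points.ofScheme PL t₀, Subsingleton.elim _ _⟩
  obtain ⟨Z', i, k₁, _, str₁, p₀, hZ', _, -, hp₀, hp₀s⟩ :=
    Groth.L09.Residual.exists_residualSpace Z.property (Classical.arbitrary _)
  haveI : Nonempty (AlgSp.Points Z') := ⟨AlgSp.Points.ofPt p₀ (IsLocalRing.closedPoint k₁)⟩
  haveI : IsIso i := Groth.L09.Residual.isIso_of_mono_field_cover hZ' Z.property i g hgp hgf hgs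
  let PT : Over S := Over.mk str₁
  let p : (AlgSp.yon S).obj PT ⟶ Z.obj := p₀ ≫ i
  have hp : AlgSp.RepWith @Etale p := Groth.L23.repWith_comp hp₀ (Groth.L23.repWith_of_isIso i)
  have hps : AlgSp.RepWith @Surjective p := Groth.L23.repWith_comp hp₀s (Groth.L23.repWith_of_isIso i)
  obtain ⟨P, q₀, q₁, sq⟩ := Groth.L23.exists_isPullback_of_representable (Z.property.representable_from_yon p) p
  let t₁ : PT.left := IsLocalRing.closedPoint k₁
  obtain ⟨w, -, -⟩ := exists_points_fp (overCat_isFibGrpd PT) hZ.isStack.1 hL.isStack.1 (spChart p) (spChart g)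
    (ptOver t₀) (ptOver t₁) (Subsingleton.elim _ _)
  obtain ⟨q, rfl⟩ := Points.mk_surjective w
  let A : Over S := Over.mk q.str
  obtain ⟨G, φ₀, -⟩ := exists_overCat_functor
    (Groth.L09.Fib.fp_isFibGrpd (overCat_isFibGrpd PL) (overCat_isFibGrpd PT) hZ.isStack.1) q.obj q.lies
  let a := BasedFunctor.comp G (FibCat.fpFst (spChart g) (spChart p))
  let b := BasedFunctor.comp G (FibCat.fpSnd (spChart g) (spChart p))
  let az := BasedFunctor.comp a z
  have iab : BasedFunctor.comp az π ≅ BasedFunctor.comp b (spChart p) :=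
    (whiskerL a iy :) ≪≫ (whiskerL G (FibCat.fpIso (spChart g) (spChart p)) :)
  have hA := isAlgStack_overCat A
  have hPT := isAlgStack_overCat PT
  haveI : IsAffine A.left := isAffine_Spec _
  haveI := hcp A inferInstance az
  haveI : CompactSpace (Points (FibCat.fp (BasedFunctor.comp az π) (BasedFunctor.comp az π))) :=
    (isSurjective_fpPost h𝒢.isStack.1 hπ.2 az az).compactSpace
      (continuous_map (Groth.L24.St.isAlgStack_fp hA hA hZ _ _) _)
  let bp := BasedFunctor.comp b (spChart p)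
  haveI : CompactSpace (Points (FibCat.fp bp bp)) :=
    (isHomeomorph_map_of_isEquivOver (fpMap_isEquivOver (F := bp) (G := bp) (F' := BasedFunctor.comp az π)
      (G' := BasedFunctor.comp az π) (isEquivOver_id _) (isEquivOver_id _) iab.symm iab.symm)).homeomorph.compactSpace
  haveI : Nonempty A.left := ⟨IsLocalRing.closedPoint q.K⟩
  have hb : IsSurjective b := fun P' => by
    haveI : Subsingleton PT.left := inferInstanceAs (Subsingleton (Spec (CommRingCat.of k₁)))
    refine ⟨ptOver (IsLocalRing.closedPoint q.K : A.left), ?_⟩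
    rw [← ptOver_overPt (Points.map b _), Subsingleton.elim (overPt (Points.map b _)) (overPt P'), ptOver_overPt]
  haveI : CompactSpace (Points (FibCat.fp (spChart p) bp)) := compactSpace_fp_left hPT hA hA b hb _ _ inferInstance
  haveI : CompactSpace (Points (FibCat.fp bp (spChart p))) :=
    (isHomeomorph_map_of_isEquivOver (fpSwap_isEquivOver (F := spChart p) (G := bp))).homeomorph.compactSpace
  haveI : CompactSpace (Points (FibCat.fp (spChart p) (spChart p))) :=
    compactSpace_fp_left hPT hPT hA b hb _ _ inferInstance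
  have hPfp : CompactSpace (Points (FibCat.overCat P)) := by
    let sqp := sq.map (sheafToPresheaf (AlgSp.J S) (Type (u + 1)))
    let D := fpMap (F := AlgSt.ofSpMap p) (G := AlgSt.ofSpMap p) (F' := spChart p) (G' := spChart p)
      (ofOverCat PT) (ofOverCat PT) (Iso.refl _) (Iso.refl _)
    have h1 := (isHomeomorph_map_of_isEquivOver (Θ := D)
      (fpMap_isEquivOver (ofOverCat_isEquivOver PT) (ofOverCat_isEquivOver PT) _ _)).homeomorph.compactSpace
    exact @Homeomorph.compactSpace _ _ _ _ h1 (isHomeomorph_map_of_isEquivOver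
      (isEquivOver_comp (ofOverCat_isEquivOver P) (pshFp_isEquivOver sqp))).homeomorph.symm
  haveI : CompactSpace P.left :=
    (show Function.Surjective (img (BasedFunctor.id (FibCat.overCat P))) from fun s => ⟨ptOver s, by
      rw [img, map_id_apply]
      exact overPt_ptOver s⟩).compactSpace (continuous_img _)
  let π₀ : P.left ⟶ Spec (CommRingCat.of k₁) := q₀.left
  let π₁ : P.left ⟶ Spec (CommRingCat.of k₁) := q₁.left
  have : Etale π₀ := Groth.L23.repWith_prop hp sq.flip
  have : Etale π₁ := Groth.L23.repWith_prop hp sq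
  have : QuasiCompact π₀ := (quasiCompact_iff_compactSpace π₀).2 inferInstance
  have : QuasiCompact π₁ := (quasiCompact_iff_compactSpace π₁).2 inferInstance
  have := Groth.L23.lqf_of_etale π₀
  have := Groth.L23.lqf_of_etale π₁
  have h₀ : IsFinite π₀ := IsFinite.of_locallyQuasiFinite π₀
  have h₁ : IsFinite π₁ := IsFinite.of_locallyQuasiFinite π₁
  obtain ⟨k', _, wk, πo, p', -, -, -, hmono, hfac⟩ :=
    Groth.L23.Pt.exists_factor_of_finite_etale Z.property p sq h₀ ‹_› h₁ ‹_› t₁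
  have := Groth.L23.epi_of_repWith _ hp hps
  have : Epi p' := epi_of_epi_fac hfac
  have : IsIso p' := isIso_of_mono_of_epi p'
  let f := BasedFunctor.comp π (BasedFunctor.comp (ofSpMap (inv p')) (toOverCat (Over.mk wk)))
  refine ⟨L, inferInstance, strL, z.obj (idObj PL), Over.mk wk, f, z.w_obj _, isAffine_Spec _, ?_⟩
  obtain ⟨c, hc⟩ := (AlgSp.yon S).map_surjective (g ≫ inv p')
  have hlfp : LocallyOfFinitePresentation c.left := hgp (𝟙 _) p' c (AlgSp.repWith_id @Etale _)
    (Groth.L23.repWith_of_isIso p') (by rw [Category.id_comp, hc, Category.assoc, IsIso.inv_hom_id, Category.comp_id])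
  have ic : BasedFunctor.comp z f ≅
      BasedFunctor.comp (ofOverCat PL) (BasedFunctor.comp (ofSpMap ((AlgSp.yon S).map c)) (toOverCat (Over.mk wk))) :=
    (whiskerR iy (BasedFunctor.comp (ofSpMap (inv p')) (toOverCat (Over.mk wk))) :) ≪≫
      eqToIso (by rw [hc]; rfl)
  have e := objMap_congr ic (idObj PL)
  have e2 : ∃ d : sch 𝒢 (z.obj (idObj PL)) ⟶ PL.left, IsIso d ∧ objMap f (z.obj (idObj PL)) = d ≫ c.left := by
    refine ⟨(eqToHom (z.w_obj (idObj PL))).left, inferInstanceAs (IsIso ((Over.forget S).map _)), ?_⟩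
    rw [objMap_comp_functor] at e
    rw [← cancel_epi (eqToHom (z.w_obj (idObj PL)).symm).left, e, ← Category.assoc, ← Over.comp_left, eqToHom_trans]
    show (eqToHom _ ≫ 𝟙 PL ≫ c).left = _
    simp
  obtain ⟨d, hd, e2⟩ := e2
  rw [e2]
  have hfin : IsFinite c.left := by
    have hlft : LocallyOfFiniteType c.left := inferInstance
    obtain ⟨i₀, hi₀⟩ : ∃ i₀, Spec.map i₀ = c.left := ⟨_, Spec.map_preimage c.left⟩
    rw [← hi₀] at hlft ⊢
    rw [HasRingHomProperty.Spec_iff (P := @LocallyOfFiniteType)] at hlft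
    rw [IsFinite.SpecMap_iff]
    exact RingHom.finite_iff_finiteType_of_isJacobsonRing.2 hlft
  infer_instance

end Groth.L09.GoodTop
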