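import Groth.Agent.L09.GoodTop.Noeth
import Groth.Agent.L24.LocQ.Instances
import Groth.Agent.L24.St.DiagAbs
import Mathlib.Algebra.TrivSqZeroExt.Basic

/-!
# Flatness of good moduli spaces over the base
-/

set_option autoImplicit false
set_option backward.isDefEq.respectTransparency false
set_option backward.isDefEq.respectTransparency.types false
set_option linter.style.haveILetI false
set_option linter.unusedVariables false
set_option linter.unusedSectionVars false

universe u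

open CategoryTheory CategoryTheory.Limits AlgebraicGeometry Opposite AlgSt StMod
open scoped TensorProduct

noncomputable section

namespace Groth.L09.GoodTop

open Groth.L24.St Groth.L09.CohAffBC

/-- A subring along which every module stays injective inherits flatness. -/
theorem flat_of_pure (R A B : Type u) [CommRing R] [CommRing A] [CommRing B] [Algebra R A] [Algebra R B] [Algebra A B]
    [IsScalarTower R A B] [Module.Flat R B]
    (hp : ∀ (P : Type u) [AddCommGroup P] [Module A P] (p : P), (1 : B) ⊗ₜ[A] p = 0 → p = 0) : Module.Flat R A := by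
  let ι : A →ₗ[R] B := (IsScalarTower.toAlgHom R A B).toLinearMap
  have hι : ∀ (N : Type u) [AddCommGroup N] [Module R N], Function.Injective (ι.rTensor N) := fun N _ _ => by
    refine (injective_iff_map_eq_zero _).2 fun x hx => hp _ x ?_
    refine (TensorProduct.AlgebraTensorModule.cancelBaseChange R A B B N).injective ?_
    rw [map_zero, ← hx]
    clear hx
    induction x using TensorProduct.induction_on with
    | zero => simp
    | tmul a n => simp [ι, Algebra.smul_def]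
    | add x y hx' hy' => rw [TensorProduct.tmul_add, map_add, map_add, hx', hy']
  refine Module.Flat.iff_lTensor_preserves_injective_linearMap.2 fun N N' _ _ _ _ f hf x y hxy => hι N ?_
  refine Module.Flat.lTensor_preserves_injective_linearMap (M := B) f hf ?_
  rw [← LinearMap.comp_apply, ← LinearMap.comp_apply, LinearMap.lTensor_comp_rTensor, ← LinearMap.rTensor_comp_lTensor,
    LinearMap.comp_apply, LinearMap.comp_apply, hxy]

variable {S : Scheme.{u}}

/-- A structure functor with a property has it on every smooth chart. -/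
theorem flat_hom_of_chart {𝒳 : AlgSt.Cat S} (h𝒳 : IsAlgStack Scheme.fppfPrecoverage 𝒳)
    (hfl : AlgSt.LocQ (AlgSp.LocP @Flat) (FibCat.toSelf 𝒳)) {U : Over S} (x : FibCat.overCat U ⥤ᵇ 𝒳)
    (hx : RepByAlgSpWith (AlgSp.LocP @Smooth) x) : Flat U.hom := by
  let T : Over S := Over.mk (𝟙 S)
  let y' : FibCat.overCat T ⥤ᵇ FibCat.selfOver (Over S) := FibCat.toSelf (FibCat.overCat T)
  have hy' : FibCat.IsEquivOver y' := toSelf_isEquivOver_of_terminal
  let h : U ⟶ T := Over.homMk U.hom (Category.comp_id _)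
  let ℓ : FibCat.overCat U ⥤ᵇ FibCat.fp (FibCat.toSelf 𝒳) y' :=
    FibCat.fpLift x (overMap h) (toSelfIso x ≪≫ (toSelfIso (overMap h)).symm)
  have hℓ : RepByAlgSpWith (AlgSp.LocP @Smooth) ℓ :=
    (repWith_postcomp (fpFst_isEquivOver hy') ℓ).1 hx
  haveI : MorphismProperty.ContainsIdentities (@Smooth : MorphismProperty Scheme.{u}) := ⟨fun _ => inferInstance⟩
  have hy : RepByAlgSpWith (AlgSp.LocP @Smooth) y' :=
    repWith_of_isEquivOver (fun _ _ _ _ a ha => Groth.L23.locP_of_repWith Groth.L23.etLocal_smooth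
      (Groth.L23.repWith_of_isIso (P := @Smooth) a)) hy'
  have h1 := Groth.L24.LocQ.prop_of_chart Groth.L24.LocQ.isSmoothLocalST_flat h𝒳.isStack.1
    (L09.Fib.isFibSet_id _).1 hfl hy hℓ (h' := h) (Iso.refl _)
  exact (Groth.L24.LocQ.locP_map_iff Groth.L23.etLocal_flat h).1 h1

variable {𝒳 : AlgSt.Cat S} {M : AlgSp.Space S} (h𝒳 : IsAlgStack Scheme.fppfPrecoverage 𝒳)
  (hc : CompactFibres M.obj) (π : 𝒳 ⥤ᵇ AlgSt.ofSp M.obj)
  (hqc : AlgSt.IsQuasiCompactMor Scheme.fppfPrecoverage π) (hqs : AlgSt.IsQuasiSeparatedMor π)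
  (h : IsGoodModuli π)
include h𝒳 hc hqc hqs h

/-- Modules over the functions of an affine base change stay injective on an affine atlas. -/
theorem eq_zero_of_tmul {U : Over S} (hU : IsAffine U.left) (g : (AlgSp.yon S).obj U ⟶ M.obj) {W : Over S}
    {x : FibCat.overCat W ⥤ᵇ FibCat.fp (AlgSt.ofSpMap g) π} (hx : RepByAlgSpWith (AlgSp.LocP @Smooth) x)
    (hxs : RepByAlgSpWith AlgSp.IsSurjectiveMor x) {kW : W ⟶ U}
    (eW : BasedFunctor.comp x (bcMap π g) ≅ overMap kW) (P : Type u) [AddCommGroup P] [Module Γ(U.left, ⊤) P] (p : P)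
    (hp : letI := kW.left.appTop.hom.toAlgebra; (1 : Γ(W.left, ⊤)) ⊗ₜ[Γ(U.left, ⊤)] p = 0) : p = 0 := by
  letI := kW.left.appTop.hom.toAlgebra
  letI : Module (Γ(U.left, ⊤))ᵐᵒᵖ P :=
    Module.compHom P ((RingHom.id Γ(U.left, ⊤)).fromOpposite fun a b => Commute.all _ _)
  haveI : IsCentralScalar Γ(U.left, ⊤) P := ⟨fun a m => rfl⟩
  let A' := CommRingCat.of (TrivSqZeroExt Γ(U.left, ⊤) P)
  let q : Γ(U.left, ⊤) ⟶ A' := CommRingCat.ofHom (algebraMap _ (TrivSqZeroExt Γ(U.left, ⊤) P))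
  let k0 : Spec A' ⟶ U.left := Spec.map q ≫ U.left.isoSpec.inv
  have hk : k0.appTop = q ≫ (Scheme.ΓSpecIso A').inv := by
    show (Spec.map q ≫ U.left.isoSpec.inv).appTop = _
    rw [Scheme.Hom.comp_appTop, isoSpec_inv_appTop', Scheme.ΓSpecIso_inv_naturality]
  let U' : Over S := Over.mk (k0 ≫ U.hom)
  let k : U' ⟶ U := Over.homMk k0 rfl
  have hU' : IsAffine U'.left := inferInstanceAs (IsAffine (Spec A'))
  have sq : IsPullback (pullback.fst k.left kW.left) (pullback.snd k.left kW.left) k.left kW.left :=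
    IsPullback.of_hasPullback _ _
  let φ₁ : A' →+* Γ(pullback k.left kW.left, ⊤) :=
    (pullback.fst k.left kW.left).appTop.hom.comp (Scheme.ΓSpecIso A').inv.hom
  let φ₂ := (pullback.snd k.left kW.left).appTop.hom
  letI : Algebra Γ(U.left, ⊤) Γ(pullback k.left kW.left, ⊤) := (φ₂.comp kW.left.appTop.hom).toAlgebra
  have hcomm : ∀ a, φ₁ (q a) = φ₂ (kW.left.appTop a) := fun a => by
    have e := congrArg (fun t => t a) (congrArg Scheme.Hom.appTop sq.w)
    simp only [Scheme.Hom.comp_appTop, CommRingCat.comp_apply] at e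
    rw [show k.left.appTop a = (Scheme.ΓSpecIso A').inv (q a) from congrArg (fun t => t a) hk] at e
    exact e
  let a₁ : TrivSqZeroExt Γ(U.left, ⊤) P →ₐ[Γ(U.left, ⊤)] Γ(pullback k.left kW.left, ⊤) :=
    AlgHom.mk φ₁ hcomm
  let a₂ : Γ(W.left, ⊤) →ₐ[Γ(U.left, ⊤)] Γ(pullback k.left kW.left, ⊤) := AlgHom.mk φ₂ fun a => rfl
  have h1 : φ₁ (TrivSqZeroExt.inr p) = 0 := by
    have e := congrArg ((LinearMap.mul' Γ(U.left, ⊤) Γ(pullback k.left kW.left, ⊤)).comp
      (TensorProduct.map a₂.toLinearMap (a₁.toLinearMap.comp (TrivSqZeroExt.inrHom Γ(U.left, ⊤) P)))) hp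
    simp only [LinearMap.comp_apply, map_zero, TensorProduct.map_tmul, LinearMap.mul'_apply] at e
    rw [← one_mul (φ₁ (TrivSqZeroExt.inr p)), ← map_one φ₂]
    exact e
  have h0 := eq_zero_of_pullback_atlas h𝒳 hc π hqc hqs h g hx hxs eW hU' k sq
    ((Scheme.ΓSpecIso A').inv (TrivSqZeroExt.inr p : TrivSqZeroExt Γ(U.left, ⊤) P)) h1
  have h2 : (TrivSqZeroExt.inr p : TrivSqZeroExt Γ(U.left, ⊤) P) = 0 :=
    (Scheme.ΓSpecIso A').commRingCatIsoToRingEquiv.symm.injective (h0.trans (map_zero _).symm)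
  exact TrivSqZeroExt.inr_injective (h2.trans (TrivSqZeroExt.inr_zero _).symm)

/-- A good moduli space of a flat stack is flat on étale charts. -/
theorem flat_hom_of_etale (hfl : AlgSt.LocQ (AlgSp.LocP @Flat) (FibCat.toSelf 𝒳)) {R : Over S}
    (p : (AlgSp.yon S).obj R ⟶ M.obj) (hp : AlgSp.RepWith @Etale p) : Flat R.hom := by
  rw [HasRingHomProperty.iff_appLE (P := @Flat)]
  intro U₀ V e
  let V' : Over S := Over.mk (V.1.ι ≫ R.hom)
  let j : V' ⟶ R := Over.homMk V.1.ι rfl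
  have hV : IsAffine V'.left := V.2
  let g : (AlgSp.yon S).obj V' ⟶ M.obj := (AlgSp.yon S).map j ≫ p
  have het : AlgSp.RepWith @Etale g :=
    Groth.L23.repWith_comp (Groth.L23.repWith_map (inferInstanceAs (Etale V.1.ι))) hp
  obtain ⟨W, x, kW, hW, hx, hxs, ⟨eW⟩, hxx⟩ := exists_atlas_fp h𝒳 π hqc hV g
  have hflW : Flat W.hom := flat_hom_of_chart h𝒳 hfl _ (hxx het)
  let kV : W.left ⟶ R.left := kW.left ≫ V.1.ι
  have hkV : kV ⁻¹ᵁ V.1 = ⊤ := by ext t; simpa [kV] using (kW.left t).2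
  have eW' : (⊤ : W.left.Opens) ≤ W.hom ⁻¹ᵁ U₀.1 := by
    rw [← Over.w kW]
    intro t _
    exact e (kW.left t).2
  have hcomp : R.hom.appLE U₀.1 V.1 e ≫ kV.appLE V.1 ⊤ hkV.ge = W.hom.appLE U₀.1 ⊤ eW' := by
    rw [Scheme.Hom.appLE_comp_appLE]
    have hh : kV ≫ R.hom = W.hom := by rw [← Over.w kW]; exact Category.assoc _ _ _
    simp only [hh]
  have hB : (W.hom.appLE U₀.1 ⊤ eW').hom.Flat :=
    HasRingHomProperty.appLE (P := @Flat) W.hom hflW U₀ ⟨⊤, isAffineOpen_top W.left⟩ eW'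
  have hψ : kV.appLE V.1 ⊤ hkV.ge = V.1.topIso.inv ≫ kW.left.appTop := by
    rw [show kW.left.appTop = kW.left.appLE ⊤ ⊤ le_top by simp [Scheme.Hom.appLE],
      show V.1.topIso.inv = V.1.ι.appLE V.1 ⊤ V.1.ι_preimage_self.ge by
        simp [Scheme.Hom.appLE, Scheme.Opens.topIso, ← Functor.map_comp]; rfl]
    exact (Scheme.Hom.appLE_comp_appLE _ _ _ _ _ _ _).symm
  let φ : Γ(S, U₀.1) ⟶ Γ(V'.left, ⊤) := R.hom.appLE U₀.1 V.1 e ≫ V.1.topIso.inv
  have hφ : φ.hom.Flat := by
    letI := φ.hom.toAlgebra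
    letI := kW.left.appTop.hom.toAlgebra
    letI : Algebra Γ(S, U₀.1) Γ(W.left, ⊤) := (kW.left.appTop.hom.comp φ.hom).toAlgebra
    haveI : IsScalarTower Γ(S, U₀.1) Γ(V'.left, ⊤) Γ(W.left, ⊤) := IsScalarTower.of_algebraMap_eq fun _ => rfl
    haveI : Module.Flat Γ(S, U₀.1) Γ(W.left, ⊤) := by
      have : (φ ≫ kW.left.appTop).hom.Flat := by
        rw [show φ ≫ kW.left.appTop = W.hom.appLE U₀.1 ⊤ eW' by rw [← hcomp, hψ]; exact Category.assoc _ _ _]
        exact hB
      exact this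
    exact flat_of_pure Γ(S, U₀.1) Γ(V'.left, ⊤) Γ(W.left, ⊤)
      fun P _ _ q hq => eq_zero_of_tmul h𝒳 hc π hqc hqs h hV g hx hxs eW P q hq
  have : (φ ≫ V.1.topIso.hom).hom.Flat :=
    RingHom.Flat.stableUnderComposition _ _ hφ
      (RingHom.Flat.of_bijective V.1.topIso.commRingCatIsoToRingEquiv.bijective)
  rwa [Category.assoc, Iso.inv_hom_id, Category.comp_id] at this

end Groth.L09.GoodTop
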