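import Groth.Agent.L09.GoodTop.Over
import Groth.Agent.L09.CohAffBC.GoodModuli

/-!
# Base changes of good moduli morphisms to affine schemes
-/

set_option autoImplicit false
set_option backward.isDefEq.respectTransparency false
set_option backward.isDefEq.respectTransparency.types false
set_option linter.style.haveILetI false
set_option linter.unusedVariables false
set_option linter.unusedSectionVars false

universe u

open CategoryTheory CategoryTheory.Limits AlgebraicGeometry Opposite AlgSt StMod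

noncomputable section

namespace Groth.L09.GoodTop

open Groth.L23.RelGen Groth.L09.CohAffBC Groth.L24.St

variable {S : Scheme.{u}}

theorem objMap_eq_baseOver {𝒵 : AlgSt.Cat S} {U : Over S} (ψ : 𝒵 ⥤ᵇ AlgSt.ofSp ((AlgSp.yon S).obj U))
    (z : 𝒵.obj) (α : ψ.obj z ⟶ etaOf (idEt U)) :
    objMap (BasedFunctor.comp ψ (toOverCat U)) z = (baseOver ψ z α).left := by
  refine congrArg CommaMorphism.left ?_
  show eqToHom _ ≫ (ψ.obj z).sec.down = eqToHom _ ≫ α.hom
  refine congrArg₂ (fun a b => a ≫ b) rfl ?_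
  have h := congrArg ULift.down α.map_sec
  have h2 : (etaOf (idEt U)).sec.down = 𝟙 U := by
    have h4 : (etaOf (idEt U)).sec = (AlgSp.J S).uliftYonedaEquiv (𝟙 ((AlgSp.yon S).obj U)) := rfl
    rw [h4]
    rfl
  have h3 : α.hom ≫ (etaOf (idEt U)).sec.down = (ψ.obj z).sec.down := h
  rw [← h3, h2]
  exact Category.comp_id _

/-- A good moduli morphism to an affine scheme satisfies the hypotheses of `AffGood`. -/
theorem affGood_of_isGoodModuli {𝒵 : AlgSt.Cat S} (h𝒵 : IsAlgStack Scheme.fppfPrecoverage 𝒵) {U : Over S}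
    (hU : IsAffine U.left) (ψ : 𝒵 ⥤ᵇ AlgSt.ofSp ((AlgSp.yon S).obj U)) (h : IsGoodModuli ψ) :
    AffGood (BasedFunctor.comp ψ (toOverCat U)) := by
  obtain ⟨O₁⟩ := nonempty_over1_ofSch ψ
  have hbij : Function.Bijective (unitSect ψ (etaOf (idEt U))) := h.2 (idEt U)
  refine ⟨h𝒵, surjective_glob_of_isCohAffine hU ψ h.1, fun a => ?_, fun f hf => hbij.1 ?_⟩
  · obtain ⟨f, hf⟩ := hbij.2 ⟨fun z _ => a.1 z, fun z' z φ α => a.2 φ⟩
    refine ⟨f, fun x => ?_⟩
    rw [objMap_eq_baseOver ψ x (O₁.P x)]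
    exact (congrFun (congrFun (congrArg Subtype.val hf) x) (O₁.P x)).symm
  · rw [map_zero]
    refine Mod.RelSect.ext _ _ _ fun z α => ?_
    rw [unitSect_val, ← objMap_eq_baseOver ψ z α]
    exact hf z

/-- The map of a base change to the scheme. -/
abbrev bcMap {𝒳 : AlgSt.Cat S} {M : AlgSp.Sp S} (π : 𝒳 ⥤ᵇ AlgSt.ofSp M) {U : Over S}
    (g : (AlgSp.yon S).obj U ⟶ M) : FibCat.fp (AlgSt.ofSpMap g) π ⥤ᵇ FibCat.overCat U :=
  BasedFunctor.comp (FibCat.fpFst (AlgSt.ofSpMap g) π) (toOverCat U)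

/-- The base change of a good moduli space to an affine scheme. -/
theorem affGood_fp {𝒳 : AlgSt.Cat S} (h𝒳 : IsAlgStack Scheme.fppfPrecoverage 𝒳)
    {M : AlgSp.Space S} (hM : CompactFibres M.obj) (π : 𝒳 ⥤ᵇ AlgSt.ofSp M.obj)
    (hqc : AlgSt.IsQuasiCompactMor Scheme.fppfPrecoverage π) (hqs : AlgSt.IsQuasiSeparatedMor π)
    (h : IsGoodModuli π) {U : Over S} (hU : IsAffine U.left) (g : (AlgSp.yon S).obj U ⟶ M.obj) :
    AffGood (bcMap π g) := by
  let V : AlgSp.Space S := ⟨(AlgSp.yon S).obj U, AlgSp.IsAlgSpace.yon_obj U⟩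
  let g' : V.obj ⟶ M.obj := g
  have h𝒵 := Groth.L24.St.isAlgStack_fp (Groth.L09.Gerbe.isAlgStack_ofSp V) h𝒳
    (Groth.L09.Gerbe.isAlgStack_ofSp M) (AlgSt.ofSpMap g') π
  exact affGood_of_isGoodModuli h𝒵 hU _
    (isGoodModuli_fpFst M V hM h𝒳 g' π hqc hqs h𝒵 h)

end Groth.L09.GoodTop
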