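import Groth.Agent.L09.GoodTop.ClosedIff
import Groth.Agent.L09.CohAffBC.Datum
import Groth.Agent.L09.HomAffine.Basic

/-!
# The ideal of a closed substack on affine objects
-/

set_option autoImplicit false
set_option backward.isDefEq.respectTransparency false
set_option backward.isDefEq.respectTransparency.types false
set_option linter.style.haveILetI false
set_option linter.unusedVariables false

universe u

open CategoryTheory CategoryTheory.Limits AlgebraicGeometry Opposite AlgSt StMod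
open scoped TensorProduct

noncomputable section

namespace Groth.L09.GoodTop

open Groth.L23.RelGen Groth.L09.CohAffBC

variable {S : Scheme.{u}} {𝒳 : AlgSt.Cat S}

theorem fn_comp {a b c : 𝒳.obj} (f : a ⟶ b) (g : b ⟶ c) (r : Fn c) :
    fnMap (f ≫ g) r = fnMap f (fnMap g r) := congrArg (fun k => k r) (fnMap_comp f g)

/-- The functions vanishing on the objects of a substack. -/
def vanIdeal (Q : 𝒳.obj → Prop) (x : 𝒳.obj) : Ideal (Fn x) :=
  ⨅ (z : 𝒳.obj) (φ : z ⟶ x) (_ : Q z), RingHom.ker (fnMap φ)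

variable {Q : 𝒳.obj → Prop}

theorem mem_vanIdeal {x : 𝒳.obj} {r : Fn x} :
    r ∈ vanIdeal Q x ↔ ∀ (z : 𝒳.obj) (φ : z ⟶ x), Q z → fnMap φ r = 0 := by
  simp only [vanIdeal, Submodule.mem_iInf, RingHom.mem_ker]

theorem fnMap_mem_vanIdeal {x' x : 𝒳.obj} (φ : x' ⟶ x) {r : Fn x} (h : r ∈ vanIdeal Q x) :
    fnMap φ r ∈ vanIdeal Q x' :=
  mem_vanIdeal.2 fun z ψ hz => by
    rw [← fn_comp]
    exact mem_vanIdeal.1 h z _ hz

/-- The object over the closed subscheme of an ideal. -/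
theorem exists_quotObj (h : FibCat.IsFibGrpd 𝒳.p) (x : AObj 𝒳) (K : Ideal (Fn x.1)) :
    ∃ (z : AObj 𝒳) (φ : z.1 ⟶ x.1), Function.Surjective (fnMap φ) ∧ RingHom.ker (fnMap φ) = K := by
  let R : CommRingCat.{u} := CommRingCat.of (Fn x.1 ⧸ K)
  obtain ⟨g, hg⟩ := Groth.L09.HomAffine.exists_appTop_eq (X := Spec R) (T := sch 𝒳 x.1)
    ((Scheme.ΓSpecIso R).inv.hom.comp (Ideal.Quotient.mk K))
  let V : Over S := Over.mk (g ≫ (𝒳.p.obj x.1).hom)
  obtain ⟨z, φ, e, hφ⟩ := exists_lift h (Over.homMk g rfl : V ⟶ 𝒳.p.obj x.1)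
  let i : sch 𝒳 z ⟶ Spec R := eqToHom (congrArg Comma.left e)
  haveI : IsIso i := inferInstanceAs (IsIso (eqToHom (congrArg Comma.left e)))
  have hb : bmap 𝒳 φ = i ≫ g := by
    have := congrArg (fun k => k.left) hφ
    simp only [Over.comp_left, Over.eqToHom_left] at this
    exact this
  have hi : Function.Bijective i.appTop := ConcreteCategory.bijective_of_isIso i.appTop
  have hv : ∀ r, fnMap φ r = i.appTop ((Scheme.ΓSpecIso R).inv (Ideal.Quotient.mk K r)) := fun r => by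
    show (bmap 𝒳 φ).appTop r = _
    rw [hb, Scheme.Hom.comp_appTop, CommRingCat.comp_apply, hg]
    rfl
  have hΓ : Function.Bijective ((Scheme.ΓSpecIso R).inv) :=
    ConcreteCategory.bijective_of_isIso (Scheme.ΓSpecIso R).inv
  refine ⟨⟨z, IsAffine.of_isIso i⟩, φ, fun a => ?_, ?_⟩
  · obtain ⟨b, rfl⟩ := hi.2 a
    obtain ⟨c, rfl⟩ := hΓ.2 b
    obtain ⟨r, rfl⟩ := Ideal.Quotient.mk_surjective c
    exact ⟨r, hv r⟩
  · ext r
    rw [RingHom.mem_ker, hv, map_eq_zero_iff i.appTop.hom hi.1, map_eq_zero_iff _ hΓ.1,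
      Ideal.Quotient.eq_zero_iff_mem]

variable (h𝒳 : IsAlgStack Scheme.fppfPrecoverage 𝒳) (hQ : IsClosedSubstack 𝒳 Q Scheme.fppfPrecoverage)
include h𝒳 hQ

/-- An affine object over an affine object is in the substack when it kills the ideal. -/
theorem mem_of_vanIdeal_le_ker {z x : AObj 𝒳} (φ : z.1 ⟶ x.1)
    (h : vanIdeal Q x.1 ≤ RingHom.ker (fnMap φ)) : Q z.1 := by
  obtain ⟨Z, j, hj, hiff⟩ := exists_closed_iff h𝒳 hQ x.1
  haveI : IsAffine Z := isAffine_of_isAffineHom j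
  have hsur : Function.Surjective j.appTop := (IsClosedImmersion.isAffine_surjective_of_isAffine j).2
  have hker : ∀ r, j.appTop r = 0 → fnMap φ r = 0 := fun r hr => by
    refine RingHom.mem_ker.1 (h (mem_vanIdeal.2 fun w ψ hw => ?_))
    obtain ⟨l, hl⟩ := (hiff w ψ).1 hw
    show (bmap 𝒳 ψ).appTop r = 0
    rw [← hl, Scheme.Hom.comp_appTop, CommRingCat.comp_apply, hr, map_zero]
  let g : Γ(Z, ⊤) →+* Fn z.1 := RingHom.liftOfSurjective j.appTop.hom hsur
    ⟨fnMap φ, fun r hr => RingHom.mem_ker.2 (hker r (RingHom.mem_ker.1 hr))⟩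
  obtain ⟨l, hl⟩ := Groth.L09.HomAffine.exists_appTop_eq g
  refine (hiff z.1 φ).2 ⟨l, ext_of_isAffine ?_⟩
  ext r
  rw [Scheme.Hom.comp_appTop, CommRingCat.comp_apply, hl]
  exact RingHom.liftOfRightInverse_comp_apply _ _ _ _ r

/-- The ideal commutes with flat base change. -/
theorem vanIdeal_le_map {x' x : AObj 𝒳} (φ : x'.1 ⟶ x.1) :
    vanIdeal Q x'.1 ≤ (vanIdeal Q x.1).map (fnMap φ) := by
  intro r hr
  obtain ⟨z, ψ, -, hker⟩ := exists_quotObj h𝒳.isStack.1 x' ((vanIdeal Q x.1).map (fnMap φ))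
  have hz : Q z.1 := mem_of_vanIdeal_le_ker h𝒳 hQ (ψ ≫ φ) fun a ha => by
    rw [RingHom.mem_ker, fn_comp, ← RingHom.mem_ker, hker]
    exact Ideal.mem_map_of_mem _ ha
  rw [← hker]
  exact RingHom.mem_ker.2 (mem_vanIdeal.1 hr z.1 ψ hz)

omit h𝒳 hQ

/-- The restriction of the ideal. -/
def vanRes {x' x : 𝒳.obj} (φ : x' ⟶ x) : vanIdeal Q x →+ vanIdeal Q x' where
  toFun r := ⟨fnMap φ r.1, fnMap_mem_vanIdeal φ r.2⟩
  map_zero' := Subtype.ext (map_zero _)
  map_add' a b := Subtype.ext (map_add _ _ _)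

@[simp] theorem vanRes_val {x' x : 𝒳.obj} (φ : x' ⟶ x) (r : vanIdeal Q x) : (vanRes φ r).1 = fnMap φ r.1 := rfl

include h𝒳 hQ

set_option maxHeartbeats 800000 in
/-- The ideals of a closed substack form a datum. -/
theorem exists_vanBC {x' x : AObj 𝒳} (φ : x'.1 ⟶ x.1) (hφ : Flat (bmap 𝒳 φ)) :
    letI := (fnMap φ).toAlgebra
    ∃ E : Fn x'.1 ⊗[Fn x.1] vanIdeal Q x.1 ≃+ vanIdeal Q x'.1,
      ∀ r m, E (r ⊗ₜ m) = r • vanRes φ m := by
  letI := (fnMap φ).toAlgebra
  haveI := hφ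
  haveI : Module.Flat (Fn x.1) (Fn x'.1) := fnMap_flat φ
  let f : Fn x'.1 ⊗[Fn x.1] vanIdeal Q x.1 →ₗ[Fn x.1] Fn x'.1 :=
    (TensorProduct.rid (Fn x.1) (Fn x'.1)).toLinearMap ∘ₗ
      (vanIdeal Q x.1).subtype.lTensor (Fn x'.1)
  have hf : ∀ r m, f (r ⊗ₜ m) = r * fnMap φ m.1 := fun r m => by
    show m.1 • r = _
    rw [Algebra.smul_def, mul_comm]
    rfl
  have hinj : Function.Injective f :=
    (TensorProduct.rid (Fn x.1) (Fn x'.1)).injective.comp
      (Module.Flat.lTensor_preserves_injective_linearMap _ Subtype.val_injective)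
  have hmem : ∀ w, f w ∈ vanIdeal Q x'.1 := fun w => by
    induction w using TensorProduct.induction_on with
    | zero => rw [map_zero]; exact zero_mem _
    | tmul r m => rw [hf]; exact Ideal.mul_mem_left _ _ (fnMap_mem_vanIdeal φ m.2)
    | add a b ha hb => rw [map_add]; exact add_mem ha hb
  let F : Fn x'.1 ⊗[Fn x.1] vanIdeal Q x.1 →+ vanIdeal Q x'.1 :=
    { toFun := fun w => ⟨f w, hmem w⟩
      map_zero' := Subtype.ext (map_zero f)
      map_add' := fun v w => Subtype.ext (map_add f v w) }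
  refine ⟨AddEquiv.ofBijective F ⟨fun v w h => hinj (congrArg Subtype.val h), fun m => ?_⟩,
    fun r m => Subtype.ext ?_⟩
  swap
  · show f (r ⊗ₜ m) = _
    rw [hf]
    rfl
  suffices h : m.1 ∈ Set.range f by
    obtain ⟨w, hw⟩ := h
    exact ⟨w, Subtype.ext hw⟩
  have hm := vanIdeal_le_map h𝒳 hQ φ m.2
  rw [Ideal.map] at hm
  generalize m.1 = a₀ at hm ⊢
  induction hm using Submodule.span_induction with
  | mem a ha =>
    obtain ⟨b, hb, rfl⟩ := ha
    exact ⟨1 ⊗ₜ ⟨b, hb⟩, by rw [hf, one_mul]⟩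
  | zero => exact ⟨0, map_zero _⟩
  | add a b _ _ ha hb =>
    obtain ⟨v, rfl⟩ := ha
    obtain ⟨w, rfl⟩ := hb
    exact ⟨v + w, map_add _ _ _⟩
  | smul c a _ ha =>
    obtain ⟨v, rfl⟩ := ha
    refine ⟨c • v, ?_⟩
    clear * - hf
    induction v using TensorProduct.induction_on with
    | zero => simp
    | tmul r m => rw [TensorProduct.smul_tmul', hf, hf, smul_eq_mul, smul_eq_mul, mul_assoc]
    | add a b ha hb => simp only [smul_add, map_add, ha, hb]

/-- The datum of the ideal of a closed substack. -/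
def vanDatum : FlatDatum 𝒳 where
  H x := ModuleCat.of (Fn x.1) (vanIdeal Q x.1)
  res φ := vanRes φ
  res_smul φ r m := Subtype.ext (by simp)
  res_comp ψ φ m := Subtype.ext (by simp [fn_comp])
  bc φ hφ := exists_vanBC h𝒳 hQ φ hφ

end Groth.L09.GoodTop
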