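import Groth.Agent.L09.GoodTop.FieldBase
import Groth.Agent.L09.GoodTop.Extend
import Groth.Agent.L09.GoodTop.FromGood
import Groth.Agent.L09.Stack.ImmNoetherian

/-!
# Finite-type points of a good moduli space lift after a finite extension
-/

set_option autoImplicit false
set_option backward.isDefEq.respectTransparency false
set_option backward.isDefEq.respectTransparency.types false
set_option linter.style.haveILetI false
set_option linter.unusedVariables false
set_option linter.unusedSectionVars false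

universe u

open CategoryTheory CategoryTheory.Limits AlgebraicGeometry Opposite AlgSt StMod

noncomputable section

namespace Groth.L09.GoodTop

open Groth.L24.St Groth.L09.CohAffBC

variable {S : Scheme.{u}}

theorem pComp_qcMor : PComp (AlgSp.IsQuasiCompactMor : MorphismProperty (AlgSp.Sp S)) :=
  fun _ _ _ _ hY hZ _ _ ha hb => Groth.L23.qcMor_comp hY hZ ha hb

theorem diag_qc_of_equiv {𝒳 𝒴 : AlgSt.Cat S} {f : 𝒳 ⥤ᵇ 𝒴} (hf : FibCat.IsEquivOver f) :
    RepByAlgSpWith AlgSp.IsQuasiCompactMor (FibCat.diag f) := by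
  obtain ⟨_, _⟩ := eqv_fullFaithful hf
  exact repWith_of_isEquivOver (fun _ _ _ _ a _ => (Groth.L09.Stack.qcqs_of_isIso a).1) (diag_isEquivOver_of_fullFaithful f)

/-- A finite map with image in the image of another makes the other finite. -/
theorem finite_of_range_le {A₀ A B : Type u} [CommRing A₀] [CommRing A] [CommRing B] (g : A₀ →+* B) (f : A →+* B)
    (hg : g.Finite) (h : ∀ a, ∃ b, f b = g a) : f.Finite := by
  letI := g.toAlgebra
  obtain ⟨s, hs⟩ := (hg : Module.Finite A₀ B).fg_top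
  letI := f.toAlgebra
  refine ⟨⟨s, eq_top_iff.2 fun x hxt => ?_⟩⟩
  clear hxt
  have hx : x ∈ @Submodule.span A₀ B _ _ (g.toAlgebra.toModule) (s : Set B) := by rw [hs]; trivial
  induction hx using Submodule.span_induction with
  | mem y hy => exact Submodule.subset_span hy
  | zero => exact zero_mem _
  | add y z _ _ hy hz => exact add_mem hy hz
  | smul a y _ hy =>
    obtain ⟨b, hb⟩ := h a
    have : g a * y ∈ Submodule.span A (s : Set B) := by
      rw [← hb]
      exact Submodule.smul_mem _ b hy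
    exact this

variable [QuasiSeparatedSpace S] {𝒳 : AlgSt.Cat S} {M : AlgSp.Space S}
  (h𝒳 : IsAlgStack Scheme.fppfPrecoverage 𝒳)
  (hc : CompactFibres M.obj) (π : 𝒳 ⥤ᵇ AlgSt.ofSp M.obj)
  (hqc : AlgSt.IsQuasiCompactMor Scheme.fppfPrecoverage π) (hqs : AlgSt.IsQuasiSeparatedMor π)
  (h : IsGoodModuli π)
include h𝒳 hc hqc hqs h

omit h hqc hc in
/-- The base change to an affine scheme has quasi-compact diagonal over the base. -/
theorem diag_toSelf_qc {U : Over S} [IsAffine U.left] (g : (AlgSp.yon S).obj U ⟶ M.obj) :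
    RepByAlgSpWith AlgSp.IsQuasiCompactMor (FibCat.diag (FibCat.toSelf (FibCat.fp (AlgSt.ofSpMap g) π))) := by
  let V : AlgSp.Space S := ⟨(AlgSp.yon S).obj U, AlgSp.IsAlgSpace.yon_obj U⟩
  let T₀ : Over S := Over.mk (𝟙 S)
  let B : AlgSp.Space S := ⟨(AlgSp.yon S).obj T₀, AlgSp.IsAlgSpace.yon_obj T₀⟩
  let g' : V.obj ⟶ M.obj := g
  have hV := Groth.L09.Gerbe.isAlgStack_ofSp V
  have hB := Groth.L09.Gerbe.isAlgStack_ofSp B
  have h𝒵 := Groth.L24.St.isAlgStack_fp hV h𝒳 (Groth.L09.Gerbe.isAlgStack_ofSp M) (AlgSt.ofSpMap g') π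
  let a : U ⟶ T₀ := Over.homMk U.hom (Category.comp_id _)
  haveI : QuasiSeparated a.left := inferInstanceAs (QuasiSeparated U.hom)
  have hd : AlgSp.IsQuasiCompactMor (pullback.diagonal ((AlgSp.yon S).map a)) := by
    have hr : AlgSp.RepWith @QuasiSeparated ((AlgSp.yon S).map a) := Groth.L23.repWith_map inferInstance
    exact Groth.L23.isQuasiCompactMor_of_repWith ((Groth.L23.isQuasiSeparatedMor_iff hr.1).2 hr)
  have hdiag : RepByAlgSpWith AlgSp.IsQuasiCompactMor (FibCat.diag (AlgSt.ofSpMap ((AlgSp.yon S).map a))) :=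
    (diag_repWith_ofSpMap _).2 (repWith_ofSpMap_of_prop pBase_qcMor V.property
      (isAlgSpace_pullback V.property V.property B.property _ _) _ hd)
  let c := BasedFunctor.comp (toOverCat T₀) (FibCat.toSelf (FibCat.overCat T₀))
  have hc' : FibCat.IsEquivOver c := isEquivOver_comp (toOverCat_isEquivOver T₀) toSelf_isEquivOver_of_terminal
  rw [selfOver_ext (FibCat.toSelf (FibCat.fp (AlgSt.ofSpMap g) π))
    (BasedFunctor.comp (BasedFunctor.comp (FibCat.fpFst (AlgSt.ofSpMap g) π)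
      (AlgSt.ofSpMap ((AlgSp.yon S).map a))) c)]
  refine diag_comp_repWith hasAtlasCovers_fppf pBase_qcMor pComp_qcMor Groth.L24.Alg.isLocalOnBase_fppf_qcMor
    h𝒵.isStack.1 hB.isStack.1 (diag_comp_repWith hasAtlasCovers_fppf pBase_qcMor pComp_qcMor
      Groth.L24.Alg.isLocalOnBase_fppf_qcMor h𝒵.isStack.1 hV.isStack.1 ?_ hdiag) (diag_qc_of_equiv hc')
  exact diag_fpFst_repWith _ (Groth.L24.St.repWith_mono (fun _ _ _ _ h => h.1) hqs)

/-- A point of finite type of a good moduli space lifts after a finite extension. -/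
theorem exists_lift_finite (hN : AlgSt.SmoothLocally (fun T => IsLocallyNoetherian T) 𝒳) {K : Type u} [Field K]
    {t : Spec (CommRingCat.of K) ⟶ S} (y : (AlgSp.yon S).obj (Over.mk t) ⟶ M.obj)
    (hy : AlgSp.LocP @LocallyOfFiniteType y) :
    ∃ (K' : Type u) (_ : Field K') (i : K →+* K'), i.Finite ∧
      ∃ x : 𝒳.p.Fiber (Over.mk (Spec.map (CommRingCat.ofHom i) ≫ t)),
        AlgSt.fibSec π x =
          (AlgSp.J S).uliftYonedaEquiv
            ((AlgSp.yon S).map (Over.homMk (Spec.map (CommRingCat.ofHom i)) rfl :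
                Over.mk (Spec.map (CommRingCat.ofHom i) ≫ t) ⟶ Over.mk t) ≫ y) := by
  let T : Over S := Over.mk t
  let V : AlgSp.Space S := ⟨(AlgSp.yon S).obj T, AlgSp.IsAlgSpace.yon_obj T⟩
  let y' : V.obj ⟶ M.obj := y
  have hV := Groth.L09.Gerbe.isAlgStack_ofSp V
  have hM := Groth.L09.Gerbe.isAlgStack_ofSp M
  haveI : IsAffine T.left := isAffine_Spec _
  haveI : Nonempty T.left := ⟨IsLocalRing.closedPoint K⟩
  let 𝒵 := FibCat.fp (AlgSt.ofSpMap y) π
  have h𝒵 : IsAlgStack Scheme.fppfPrecoverage 𝒵 :=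
    Groth.L24.St.isAlgStack_fp hV h𝒳 hM (AlgSt.ofSpMap y') π
  have H := affGood_fp h𝒳 hc π hqc hqs h (U := T) inferInstance y
  have hΔ := diag_toSelf_qc h𝒳 π hqs (U := T) y
  have hqcZ : IsQuasiCompact 𝒵 := hqc (AlgSt.ofSp V.obj) hV
    ((isQuasiCompact_iff_of_isEquivOver (toOverCat_isEquivOver T)).2 (isQuasiCompact_overCat T)) (AlgSt.ofSpMap y')
  have hlft : RepByAlgSpWith (AlgSp.LocP @LocallyOfFiniteType) (FibCat.fpSnd (AlgSt.ofSpMap y') π) :=
    repWith_fpSnd π (repWith_ofSpMap_of_prop (pBase_locP Groth.L23.etLocal_lft) V.property M.property y' hy)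
  have hNZ : SmoothLocally (fun T => IsLocallyNoetherian T) 𝒵 := Groth.L24.LocQ.smoothLocally_noetherian_of_lft h𝒵 h𝒳
    (Groth.L24.LocQ.locQ_of_repWith_locP Groth.L23.etLocal_lft h𝒵 h𝒳 hlft) hN
  haveI := spectralSpace_points h𝒵 hqcZ hΔ
  haveI := H.nonempty_points
  obtain ⟨P, -, hP⟩ := IsClosed.exists_closed_singleton (X := Points 𝒵) isClosed_univ Set.univ_nonempty
  obtain ⟨Q, hQ, hrange, hred⟩ := Groth.L09.Stack.exists_reduced_closedSubstack h𝒵 {P} hP
  let ι := subIncl 𝒵 Q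
  let 𝒢 := fullSub 𝒵 Q
  have h𝒢 : IsAlgStack Scheme.fppfPrecoverage 𝒢 := hQ.2.1
  haveI : ι.toFunctor.Full := inferInstanceAs (ObjectProperty.ι Q).Full
  haveI : ι.toFunctor.Faithful := inferInstanceAs (ObjectProperty.ι Q).Faithful
  have himm : AlgSt.IsImm ι := Groth.L24.St.repWith_mono (fun _ _ _ _ h =>
    Groth.L23.repWith_mono (fun φ (_ : IsClosedImmersion φ) => inferInstanceAs (IsImmersion φ)) h) hQ.2.2
  have hNG := (Groth.L09.Stack.noetherian_of_isImm h𝒢 h𝒵 hNZ himm).1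
  have hneG : Nonempty (Points 𝒢) := by
    obtain ⟨P', -⟩ : P ∈ Set.range (Points.map ι) := hrange ▸ rfl
    exact ⟨P'⟩
  have hsubG : Subsingleton (Points 𝒢) := ⟨fun a b =>
    injective_map_of_fullFaithful h𝒢.isStack.1 h𝒵.isStack.1 ι
      (((hrange ▸ Set.mem_range_self a : Points.map ι a ∈ ({P} : Set _)) :).trans
        (hrange ▸ Set.mem_range_self b : Points.map ι b ∈ ({P} : Set _)).symm)⟩
  have hΔG : RepByAlgSpWith AlgSp.IsQuasiCompactMor (FibCat.diag (FibCat.toSelf 𝒢)) :=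
    (diag_toSelf_comp_iff ι).2 (diag_comp_repWith hasAtlasCovers_fppf pBase_qcMor pComp_qcMor
      Groth.L24.Alg.isLocalOnBase_fppf_qcMor h𝒢.isStack.1 h𝒵.isStack.1
      (Groth.L24.St.repWith_mono (fun _ _ _ _ h => h.1) (Groth.L09.Stack.isQuasiSeparatedMor_of_isImm h𝒢 h𝒵 himm)) hΔ)
  have hcp : ∀ (A : Over S), IsAffine A.left → ∀ a : FibCat.overCat A ⥤ᵇ 𝒢,
      CompactSpace (Points (FibCat.fp a a)) := fun A hA a => by
    haveI := hA
    obtain ⟨F, e, he, hF⟩ := exists_qc_space hΔG a a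
    haveI := Groth.L23.compactSpace_of_qcSp hF
    exact ((ptMap_isHomeomorph F).homeomorph.trans (isHomeomorph_map_of_isEquivOver he).homeomorph).compactSpace
  obtain ⟨L, _, strL, x, K₀, f, hx, hK₀, hfin⟩ := exists_finite_field_point h𝒢 hred hNG hneG hsubG hcp
  haveI : IsAffine (sch 𝒢 x) := by
    show IsAffine (𝒢.p.obj x).left
    rw [hx]
    exact isAffine_Spec _
  let xZ : 𝒵.obj := x.obj
  haveI : IsAffine (sch 𝒵 xZ) := ‹IsAffine (sch 𝒢 x)›
  obtain ⟨C⟩ := exists_flatChart h𝒵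
  have hrange' : ∀ a : Γ(K₀.left, ⊤), ∃ b : Γ(T.left, ⊤),
      (objMap (bcMap π y) xZ).appTop b = (objMap f x).appTop a := fun a => by
    obtain ⟨b, hb⟩ := exists_extend h𝒵 hQ (fun z hz => (objMap f (⟨z, hz⟩ : 𝒢.obj)).appTop a)
      (fun {z' z} m h' hz => by
        show (bmap 𝒵 m).appTop ((objMap f (⟨z, hz⟩ : 𝒢.obj)).appTop a) = _
        rw [← bmap_objMap f (ObjectProperty.homMk m : (⟨z', h'⟩ : 𝒢.obj) ⟶ ⟨z, hz⟩), Scheme.Hom.comp_appTop]
        rfl) C H.sur
    obtain ⟨r, hr⟩ := H.ex b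
    exact ⟨r, (hr xZ).symm.trans (hb ⟨xZ, inferInstance⟩ x.property)⟩
  let k : Over.mk strL ⟶ T := eqToHom hx.symm ≫ xZ.obj.fst.sec.down
  let i : CommRingCat.of K ⟶ CommRingCat.of L := Spec.preimage k.left
  have hi : Spec.map i = k.left := Spec.map_preimage _
  have hiT : Spec.map (CommRingCat.ofHom i.hom) ≫ t = strL :=
    (congrArg (· ≫ t) hi).trans (Over.w k)
  have hψ : (objMap (bcMap π y) xZ).appTop.hom.Finite :=
    finite_of_range_le (objMap f x).appTop.hom _ ((objMap f x).finite_app ⊤ (isAffineOpen_top _)) hrange'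
  have hifin : i.hom.Finite := by
    have e : k.left = (eqToHom hx.symm).left ≫ objMap (bcMap π y) xZ := by
      show _ = _ ≫ (eqToHom _ ≫ xZ.obj.fst.sec.down).left
      simp [k]
    haveI : IsFinite (objMap (bcMap π y) xZ) :=
      (HasAffineProperty.iff_of_isAffine (P := @IsFinite)).2 ⟨inferInstance, hψ⟩
    haveI : IsIso (eqToHom hx.symm).left := inferInstanceAs (IsIso ((Over.forget S).map _))
    haveI : IsFinite k.left := e ▸ inferInstance
    rw [← IsFinite.SpecMap_iff, hi]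
    infer_instance
  refine ⟨L, inferInstance, i.hom, hifin, ⟨xZ.obj.snd, ?_⟩, ?_⟩
  · exact ((FibCat.fpSnd (AlgSt.ofSpMap y) π).w_obj xZ).trans (hx.trans (by rw [hiT]))
  · have hw : 𝒵.p.obj xZ = Over.mk (Spec.map (CommRingCat.ofHom i.hom) ≫ t) := hx.trans (by rw [hiT])
    have e := Groth.L09.Gerbe.fibSec_congr (FibCat.fpIso (AlgSt.ofSpMap y) π) (⟨xZ, hw⟩ : 𝒵.p.Fiber _)
    refine e.symm.trans ?_
    show M.obj.obj.map _ (y.hom.app _ xZ.obj.fst.sec) = _
    rw [← NatTrans.naturality_apply y.hom]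
    refine Eq.trans ?_ ((AlgSp.J S).uliftYonedaEquiv_comp _ _).symm
    refine congrArg (y.hom.app _) ?_
    apply ULift.ext
    refine Over.OverMorphism.ext ?_
    show (eqToHom hw.symm ≫ xZ.obj.fst.sec.down).left = (𝟙 _ ≫
      (Over.homMk (Spec.map (CommRingCat.ofHom i.hom)) rfl :
        Over.mk (Spec.map (CommRingCat.ofHom i.hom) ≫ t) ⟶ T)).left
    simp [hi, k]

end Groth.L09.GoodTop
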