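import Groth.Agent.L09.GoodTop.Closed
import Groth.Agent.L09.LargeField.Lift
import Groth.Agent.L23.Points

/-!
# Rational points of spaces over an algebraically closed field
-/

set_option autoImplicit false
set_option backward.isDefEq.respectTransparency false
set_option backward.isDefEq.respectTransparency.types false
set_option linter.style.haveILetI false
set_option linter.unusedVariables false
set_option linter.unusedSectionVars false

universe u

open CategoryTheory CategoryTheory.Limits AlgebraicGeometry Opposite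

noncomputable section

namespace Groth.L09.GoodTop

variable {k : Type u} [Field k]

/-- Two rational sections through the same point are equal. -/
theorem section_ext {X : Scheme.{u}} (q : X ⟶ Spec (CommRingCat.of k)) {f g : Spec (CommRingCat.of k) ⟶ X}
    (hf : f ≫ q = 𝟙 _) (hg : g ≫ q = 𝟙 _) (h : f (IsLocalRing.closedPoint k) = g (IsLocalRing.closedPoint k)) :
    f = g := by
  have key : ∀ (x : X) (a b : X.residueField x ⟶ CommRingCat.of k),
      (Spec.map a ≫ X.fromSpecResidueField x) ≫ q = 𝟙 _ → (Spec.map b ≫ X.fromSpecResidueField x) ≫ q = 𝟙 _ →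
        a = b := by
    intro x a b ha hb
    obtain ⟨c, hc⟩ := Spec.map_surjective (X.fromSpecResidueField x ≫ q)
    rw [Category.assoc, ← hc, ← Spec.map_comp, ← Spec.map_id] at ha hb
    have ha' := Spec.map_injective ha
    have hb' := Spec.map_injective hb
    ext r
    have h1 : c (a r) = r := a.hom.injective (congr($(ha') (a r)))
    calc a r = (c ≫ b) (a r) := by rw [hb']; rfl
      _ = b r := by rw [CommRingCat.comp_apply, h1]
  have ef := Scheme.descResidueField_stalkClosedPointTo_fromSpecResidueField k X f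
  have eg := Scheme.descResidueField_stalkClosedPointTo_fromSpecResidueField k X g
  revert ef eg
  generalize X.descResidueField (K := k) (Scheme.stalkClosedPointTo f) = a
  generalize X.descResidueField (K := k) (Scheme.stalkClosedPointTo g) = b
  revert a b
  rw [← h]
  intro b a ef eg
  have := key _ b a ((congrArg (· ≫ q) ef).trans hf) ((congrArg (· ≫ q) eg).trans hg)
  rw [← ef, ← eg, this]

/-- A rational point is closed. -/
theorem isClosed_range_section {X : Scheme.{u}} (q : X ⟶ Spec (CommRingCat.of k)) {f : Spec (CommRingCat.of k) ⟶ X}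
    (hf : f ≫ q = 𝟙 _) : IsClosed (Set.range f) := by
  rw [← isOpen_compl_iff, isOpen_iff_forall_mem_open]
  intro y hy
  obtain ⟨V, hV, hyV, -⟩ := exists_isAffineOpen_mem_and_subset (show y ∈ (⊤ : X.Opens) from trivial)
  by_cases hp : f (IsLocalRing.closedPoint k) ∈ V
  · haveI : IsAffine V.toScheme := hV
    let f' : Spec (CommRingCat.of k) ⟶ V.toScheme := IsOpenImmersion.lift V.ι f (by
      rintro _ ⟨t, rfl⟩
      rw [Scheme.Opens.range_ι, Subsingleton.elim (α := Spec (CommRingCat.of k)) t (IsLocalRing.closedPoint k)]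
      exact hp)
    have hf' : f' ≫ V.ι = f := IsOpenImmersion.lift_fac _ _ _
    haveI : IsClosedImmersion (f' ≫ V.ι ≫ q) := by rw [← Category.assoc, hf', hf]; infer_instance
    haveI : IsClosedImmersion f' := IsClosedImmersion.of_comp f' (V.ι ≫ q)
    refine ⟨V.ι '' (Set.range f')ᶜ, ?_, V.ι.isOpenEmbedding.isOpenMap _ f'.isClosedEmbedding.isClosed_range.isOpen_compl,
      ⟨y, hyV⟩, ?_, rfl⟩
    · rintro _ ⟨v, hv, rfl⟩ ⟨t, ht⟩
      refine hv ⟨t, V.ι.isOpenEmbedding.injective ?_⟩
      rw [← Scheme.Hom.comp_apply, hf']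
      exact ht
    · rintro ⟨t, ht⟩
      refine hy ⟨t, ?_⟩
      rw [← hf', Scheme.Hom.comp_apply, ht]
      rfl
  · refine ⟨V, fun z hz hzr => ?_, V.isOpen, hyV⟩
    obtain ⟨t, rfl⟩ := hzr
    rw [Subsingleton.elim (α := Spec (CommRingCat.of k)) t (IsLocalRing.closedPoint k)] at hz
    exact hp hz

variable [IsAlgClosed k] {S : Scheme.{u}} {str : Spec (CommRingCat.of k) ⟶ S} {M : AlgSp.Space S}
  (σ : M.obj ⟶ (AlgSp.yon S).obj (Over.mk str))

/-- Rational points of an algebraic space are determined by their points. -/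
theorem kpoint_ext (g₁ g₂ : (AlgSp.yon S).obj (Over.mk str) ⟶ M.obj) (hg₁ : g₁ ≫ σ = 𝟙 _) (hg₂ : g₂ ≫ σ = 𝟙 _)
    (t : (Over.mk str).left) (h : AlgSp.Points.ofPt g₁ t = AlgSp.Points.ofPt g₂ t) : g₁ = g₂ := by
  obtain ⟨R, q, hqE, hqS⟩ := M.property.atlas
  obtain ⟨hR, hhR⟩ := (AlgSp.yon S).map_surjective (q ≫ σ)
  have lift : ∀ (g : (AlgSp.yon S).obj (Over.mk str) ⟶ M.obj) (u : R.left),
      AlgSp.Points.ofPt q u = AlgSp.Points.ofPt g t →
        ∃ r : Over.mk str ⟶ R, (AlgSp.yon S).map r ≫ q = g ∧ r.left (IsLocalRing.closedPoint k) = u := by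
    intro g u hu
    obtain ⟨p, hp⟩ := (AlgSp.yon S).map_surjective (hqE.1.fst g)
    have sq := hqE.1.isPullback g
    rw [← hp] at sq
    have he : Etale (hqE.1.snd g).left := Groth.L23.repWith_prop hqE (hqE.1.isPullback g)
    obtain ⟨e, he₁, -⟩ := (Groth.L23.ofPt_eq_ofPt_iff sq u t).1 hu
    obtain ⟨s, hs, hst⟩ := Groth.L09.LargeField.exists_section (K := k) (hqE.1.snd g).left e
    let sO : Over.mk str ⟶ hqE.1.pullback g := Over.homMk s (by
      rw [← Over.w (hqE.1.snd g), ← Category.assoc]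
      exact (congrArg (· ≫ (Over.mk str).hom) hs).trans (Category.id_comp _))
    have hs' : sO ≫ hqE.1.snd g = 𝟙 _ := Over.OverMorphism.ext hs
    refine ⟨sO ≫ p, ?_, ?_⟩
    · rw [Functor.map_comp, Category.assoc, sq.w, ← Category.assoc, ← Functor.map_comp, hs', CategoryTheory.Functor.map_id,
        Category.id_comp]
    · show (s ≫ p.left) _ = u
      rw [Scheme.Hom.comp_apply, hst, he₁]
  obtain ⟨u, hu⟩ := Groth.L23.surjective_ofPt hqS (AlgSp.Points.ofPt g₁ t)
  obtain ⟨r₁, hr₁, hr₁'⟩ := lift g₁ u hu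
  obtain ⟨r₂, hr₂, hr₂'⟩ := lift g₂ u (hu.trans h)
  have sec : ∀ {g : (AlgSp.yon S).obj (Over.mk str) ⟶ M.obj} {r : Over.mk str ⟶ R}, g ≫ σ = 𝟙 _ →
      (AlgSp.yon S).map r ≫ q = g → r.left ≫ hR.left = 𝟙 (Spec (CommRingCat.of k)) := fun {g r} hg hr => by
    have : r ≫ hR = 𝟙 _ := (AlgSp.yon S).map_injective (by
      rw [Functor.map_comp, hhR, ← Category.assoc, hr, hg, CategoryTheory.Functor.map_id])
    exact congrArg CommaMorphism.left this
  have : r₁ = r₂ := Over.OverMorphism.ext
    (section_ext hR.left (sec hg₁ hr₁) (sec hg₂ hr₂) (hr₁'.trans hr₂'.symm))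
  rw [← hr₁, ← hr₂, this]

/-- Rational points of an algebraic space with compact fibre products are closed. -/
theorem kpoint_isClosed (hc : Groth.L09.CohAffBC.CompactFibres M.obj)
    (g : (AlgSp.yon S).obj (Over.mk str) ⟶ M.obj) (hg : g ≫ σ = 𝟙 _) (t : (Over.mk str).left) :
    IsClosed ({AlgSp.Points.ofPt g t} : Set (AlgSp.Points M.obj)) := by
  obtain ⟨R, q, hqE, hqS⟩ := M.property.atlas
  obtain ⟨hR, hhR⟩ := (AlgSp.yon S).map_surjective (q ≫ σ)
  rw [← isOpen_compl_iff, ← (Groth.L23.isOpenQuotientMap_ofPt hqE hqS).isQuotientMap.isOpen_preimage,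
    isOpen_iff_forall_mem_open]
  intro u hu
  obtain ⟨V, hV, huV, -⟩ := exists_isAffineOpen_mem_and_subset (show u ∈ (⊤ : R.left.Opens) from trivial)
  let W : Over S := Over.mk (V.ι ≫ R.hom)
  let j : W ⟶ R := Over.homMk V.ι rfl
  let q' : (AlgSp.yon S).obj W ⟶ M.obj := (AlgSp.yon S).map j ≫ q
  obtain ⟨p, hp⟩ := (AlgSp.yon S).map_surjective (hqE.1.fst g)
  have sq := hqE.1.isPullback g
  rw [← hp] at sq
  have he : Etale (hqE.1.snd g).left := Groth.L23.repWith_prop hqE (hqE.1.isPullback g)
  let P := hqE.1.pullback g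
  let O : Set R.left := {r | AlgSp.Points.ofPt q r = AlgSp.Points.ofPt g t}
  have hcl : IsClosed (V.ι ⁻¹' O) := by
    let P' : Over S := Over.mk ((p.left ⁻¹ᵁ V).ι ≫ P.hom)
    have hfin : (p.left ⁻¹' (V : Set R.left)).Finite := by
      have hPc : CompactSpace ↥(p.left ⁻¹ᵁ V) := by
        haveI : IsAffine V.toScheme := hV
        haveI hWc : CompactSpace W.left := (inferInstance : CompactSpace V.toScheme)
        haveI hTc : CompactSpace (Over.mk str).left := inferInstanceAs (CompactSpace (Spec (CommRingCat.of k)))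
        let pW : P' ⟶ W := Over.homMk (p.left ∣_ V) (by
          show (p.left ∣_ V) ≫ V.ι ≫ R.hom = _
          rw [← Category.assoc, morphismRestrict_ι, Category.assoc, Over.w p]
          rfl)
        let iP : P' ⟶ P := Over.homMk (p.left ⁻¹ᵁ V).ι rfl
        have sqj : IsPullback iP pW p j :=
          IsPullback.of_map (Over.forget _) (Over.OverMorphism.ext (morphismRestrict_ι p.left V).symm)
            (isPullback_morphismRestrict p.left V).flip
        have sq' := (sqj.map (AlgSp.yon S)).paste_horiz sq.flip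
        exact hc hTc hWc (A := Over.mk str) (B := W) (P := P') (a := g) (b := q') (p₁ := iP ≫ hqE.1.snd g) (p₂ := pW)
          (by rw [Functor.map_comp]; exact sq')
      haveI : DiscreteTopology P.left := by
        haveI := Groth.L23.lqf_of_etale (hqE.1.snd g).left
        rw [← isDiscrete_univ_iff]
        have := (hqE.1.snd g).left.isDiscrete_preimage_singleton t
        have e : (hqE.1.snd g).left ⁻¹' {t} = Set.univ :=
          Set.eq_univ_of_forall fun _ => Subsingleton.elim (α := Spec (CommRingCat.of k)) _ _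
        rwa [e] at this
      exact (isCompact_iff_compactSpace.2 hPc).finite_of_discrete
    have hO : O ∩ V ⊆ p.left '' (p.left ⁻¹' (V : Set R.left)) ∧ p.left '' (p.left ⁻¹' (V : Set R.left)) ⊆ O := by
      refine ⟨fun r hr => ?_, ?_⟩
      · obtain ⟨e, he', -⟩ := (Groth.L23.ofPt_eq_ofPt_iff sq r t).1 hr.1
        exact ⟨e, show _ ∈ (V : Set R.left) by rw [he']; exact hr.2, he'⟩
      · rintro _ ⟨e, -, rfl⟩
        exact (Groth.L23.ofPt_eq_ofPt_iff sq _ t).2 ⟨e, rfl, Subsingleton.elim (α := Spec (CommRingCat.of k)) _ _⟩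
    have hpts : IsClosed (p.left '' (p.left ⁻¹' (V : Set R.left))) := by
      rw [← Set.biUnion_of_singleton (p.left '' (p.left ⁻¹' (V : Set R.left)))]
      refine (hfin.image _).isClosed_biUnion ?_
      rintro _ ⟨e, -, rfl⟩
      obtain ⟨s, hs, hst⟩ := Groth.L09.LargeField.exists_section (K := k) (hqE.1.snd g).left e
      have hps : p ≫ hR = hqE.1.snd g := (AlgSp.yon S).map_injective (by
        rw [Functor.map_comp, hhR, ← Category.assoc, sq.w, Category.assoc, hg, Category.comp_id])
      have hw : (s ≫ p.left) ≫ hR.left = 𝟙 (Spec (CommRingCat.of k)) := by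
        rw [Category.assoc]
        exact (congrArg (s ≫ ·) (congrArg CommaMorphism.left hps)).trans hs
      convert isClosed_range_section hR.left hw
      refine Set.Subset.antisymm ?_ ?_
      · rintro _ rfl
        exact ⟨IsLocalRing.closedPoint k, by rw [Scheme.Hom.comp_apply, hst]⟩
      · rintro _ ⟨t', rfl⟩
        rw [Scheme.Hom.comp_apply, hst]
        rfl
    have : V.ι ⁻¹' O = V.ι ⁻¹' (p.left '' (p.left ⁻¹' (V : Set R.left))) :=
      Set.Subset.antisymm (fun v hv => hO.1 ⟨hv, v.2⟩) fun v hv => hO.2 hv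
    rw [this]
    exact hpts.preimage V.ι.continuous
  refine ⟨V.ι '' (V.ι ⁻¹' O)ᶜ, ?_, V.ι.isOpenEmbedding.isOpenMap _ hcl.isOpen_compl, ⟨u, huV⟩, hu, rfl⟩
  rintro _ ⟨v, hv, rfl⟩
  exact hv

end Groth.L09.GoodTop
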