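import Groth.Agent.L09.GoodTop.Pure

/-!
# Noetherianity of good moduli spaces
-/

set_option autoImplicit false
set_option backward.isDefEq.respectTransparency false
set_option backward.isDefEq.respectTransparency.types false
set_option linter.style.haveILetI false
set_option linter.unusedVariables false
set_option linter.unusedSectionVars false

universe u

open CategoryTheory CategoryTheory.Limits AlgebraicGeometry Opposite AlgSt StMod

noncomputable section

namespace Groth.L09.GoodTop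

open Groth.L24.St Groth.L09.CohAffBC

theorem isNoetherianRing_of_comap_map {A B : Type u} [CommRing A] [CommRing B] (φ : A →+* B) [IsNoetherianRing B]
    (h : ∀ I : Ideal A, (I.map φ).comap φ ≤ I) : IsNoetherianRing A := by
  have h' : StrictMono (Ideal.map φ : Ideal A → Ideal B) :=
    Monotone.strictMono_of_injective (fun _ _ hle => Ideal.map_mono hle)
      fun I J hIJ => le_antisymm (Ideal.le_comap_map.trans (hIJ ▸ h J)) (Ideal.le_comap_map.trans (hIJ ▸ h I))
  haveI : WellFoundedGT (Ideal B) := isNoetherian_iff'.1 inferInstance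
  exact isNoetherianRing_iff.2 (isNoetherian_iff'.2 h'.wellFoundedGT)

theorem isoSpec_inv_appTop' (X : Scheme.{u}) [IsAffine X] :
    X.isoSpec.inv.appTop = (Scheme.ΓSpecIso Γ(X, ⊤)).inv := by
  rw [← Iso.comp_hom_eq_id, ← Scheme.toSpecΓ_appTop, ← Scheme.Hom.comp_appTop, Scheme.toSpecΓ_isoSpec_inv,
    Scheme.Hom.id_appTop]

variable {S : Scheme.{u}} {𝒳 : AlgSt.Cat S} {M : AlgSp.Space S} (h𝒳 : IsAlgStack Scheme.fppfPrecoverage 𝒳)
  (hc : CompactFibres M.obj) (π : 𝒳 ⥤ᵇ AlgSt.ofSp M.obj)
  (hqc : AlgSt.IsQuasiCompactMor Scheme.fppfPrecoverage π) (hqs : AlgSt.IsQuasiSeparatedMor π)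
  (h : IsGoodModuli π)
include h𝒳 hc hqc hqs h

/-- Functions on an affine base change are cut out by ideals which an affine atlas remembers. -/
theorem comap_map_le {U : Over S} (hU : IsAffine U.left) (g : (AlgSp.yon S).obj U ⟶ M.obj) {W : Over S}
    {x : FibCat.overCat W ⥤ᵇ FibCat.fp (AlgSt.ofSpMap g) π} (hx : RepByAlgSpWith (AlgSp.LocP @Smooth) x)
    (hxs : RepByAlgSpWith AlgSp.IsSurjectiveMor x) {kW : W ⟶ U}
    (eW : BasedFunctor.comp x (bcMap π g) ≅ overMap kW) (I : Ideal Γ(U.left, ⊤)) :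
    (I.map kW.left.appTop.hom).comap kW.left.appTop.hom ≤ I := by
  intro r hr
  let q : Γ(U.left, ⊤) ⟶ CommRingCat.of (Γ(U.left, ⊤) ⧸ I) := CommRingCat.ofHom (Ideal.Quotient.mk I)
  let k0 : Spec (CommRingCat.of (Γ(U.left, ⊤) ⧸ I)) ⟶ U.left := Spec.map q ≫ U.left.isoSpec.inv
  have hk : k0.appTop = q ≫ (Scheme.ΓSpecIso (CommRingCat.of (Γ(U.left, ⊤) ⧸ I))).inv := by
    show (Spec.map q ≫ U.left.isoSpec.inv).appTop = _
    rw [Scheme.Hom.comp_appTop, isoSpec_inv_appTop', Scheme.ΓSpecIso_inv_naturality]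
  let U' : Over S := Over.mk (k0 ≫ U.hom)
  let k : U' ⟶ U := Over.homMk k0 rfl
  have hU' : IsAffine U'.left := inferInstanceAs (IsAffine (Spec _))
  have sq : IsPullback (pullback.fst k.left kW.left) (pullback.snd k.left kW.left) k.left kW.left :=
    IsPullback.of_hasPullback _ _
  have h0 := eq_zero_of_pullback_atlas h𝒳 hc π hqc hqs h g hx hxs eW hU' k sq (k.left.appTop r) (by
    rw [← CommRingCat.comp_apply, ← Scheme.Hom.comp_appTop, sq.w, Scheme.Hom.comp_appTop, CommRingCat.comp_apply]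
    refine (Ideal.map_le_iff_le_comap (K := RingHom.ker (pullback.snd k.left kW.left).appTop.hom)).2
      (fun i hi => ?_) hr
    show (pullback.snd k.left kW.left).appTop (kW.left.appTop i) = 0
    rw [← CommRingCat.comp_apply, ← Scheme.Hom.comp_appTop, ← sq.w, Scheme.Hom.comp_appTop, CommRingCat.comp_apply,
      show k.left.appTop i = 0 from ?_, map_zero]
    show k0.appTop i = 0
    rw [hk, CommRingCat.comp_apply, show q i = 0 from Ideal.Quotient.eq_zero_iff_mem.2 hi, map_zero])
  replace h0 : k0.appTop r = 0 := h0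
  rw [hk, CommRingCat.comp_apply] at h0
  exact Ideal.Quotient.eq_zero_iff_mem.1
    ((Scheme.ΓSpecIso (CommRingCat.of (Γ(U.left, ⊤) ⧸ I))).commRingCatIsoToRingEquiv.symm.injective
      (h0.trans (map_zero _).symm))

/-- A good moduli space of a locally Noetherian stack is locally Noetherian on étale charts. -/
theorem isLocallyNoetherian_of_etale (hN : AlgSt.SmoothLocally (fun T => IsLocallyNoetherian T) 𝒳) {R : Over S}
    (p : (AlgSp.yon S).obj R ⟶ M.obj) (hp : AlgSp.RepWith @Etale p) : IsLocallyNoetherian R.left := by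
  refine ⟨fun V => ?_⟩
  let V' : Over S := Over.mk (V.1.ι ≫ R.hom)
  let j : V' ⟶ R := Over.homMk V.1.ι rfl
  have hV : IsAffine V'.left := V.2
  let g : (AlgSp.yon S).obj V' ⟶ M.obj := (AlgSp.yon S).map j ≫ p
  have het : AlgSp.RepWith @Etale g :=
    Groth.L23.repWith_comp (Groth.L23.repWith_map (inferInstanceAs (Etale V.1.ι))) hp
  obtain ⟨W, x, kW, hW, hx, hxs, ⟨eW⟩, hxx⟩ := exists_atlas_fp h𝒳 π hqc hV g
  haveI : IsLocallyNoetherian W.left := hN W _ (hxx het)
  haveI : IsNoetherianRing Γ(W.left, ⊤) :=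
    IsLocallyNoetherian.component_noetherian ⟨⊤, isAffineOpen_top W.left⟩
  haveI := isNoetherianRing_of_comap_map kW.left.appTop.hom (comap_map_le h𝒳 hc π hqc hqs h hV g hx hxs eW)
  exact isNoetherianRing_of_ringEquiv Γ(V'.left, ⊤) V.1.topIso.commRingCatIsoToRingEquiv

end Groth.L09.GoodTop
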