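import Groth.Agent.L09.GoodTop.Separate
import Groth.Agent.L09.CohAffBC.Chart
import Groth.Agent.L09.Stack.ReducedSub

/-!
# Stacks with good moduli over an affine scheme: separation of closed sets
-/

set_option autoImplicit false
set_option backward.isDefEq.respectTransparency false
set_option backward.isDefEq.respectTransparency.types false
set_option linter.style.haveILetI false
set_option linter.unusedVariables false
set_option linter.unusedSectionVars false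

universe u

open CategoryTheory CategoryTheory.Limits AlgebraicGeometry Opposite AlgSt StMod

noncomputable section

namespace Groth.L09.GoodTop

open Groth.L23.RelGen Groth.L09.CohAffBC Groth.L24.St

variable {S : Scheme.{u}} {𝒵 : AlgSt.Cat S} {U : Over S}

/-- The map to the scheme under an object of a stack over the scheme. -/
def objMap (φ : 𝒵 ⥤ᵇ FibCat.overCat U) (x : 𝒵.obj) : sch 𝒵 x ⟶ U.left :=
  (eqToHom (φ.w_obj x).symm ≫ (φ.obj x).hom).left

theorem bmap_objMap (φ : 𝒵 ⥤ᵇ FibCat.overCat U) {x' x : 𝒵.obj} (m : x' ⟶ x) :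
    bmap 𝒵 m ≫ objMap φ x = objMap φ x' := by
  have h := over_hom_factor (φ.map m) (φ.w_obj x') (φ.w_obj x)
  have e : eqToHom (φ.w_obj x').symm ≫ (φ.map m).left ≫ eqToHom (φ.w_obj x) = 𝒵.p.map m := by
    have := p_map_map φ m
    rw [show (φ.map m).left = (FibCat.overCat U).p.map (φ.map m) from rfl, this]
    simp
  rw [e] at h
  exact (congrArg CommaMorphism.left h).symm

/-- The image of a point in the scheme. -/
def img (φ : 𝒵 ⥤ᵇ FibCat.overCat U) (P : Points 𝒵) : U.left := overPt (Points.map φ P)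

/-- The scheme map of a field valued point. -/
abbrev ptHom (p : FPt 𝒵) : Spec (CommRingCat.of p.K) ⟶ sch 𝒵 p.obj := (eqToHom p.lies.symm).left

theorem img_mk (φ : 𝒵 ⥤ᵇ FibCat.overCat U) (p : FPt 𝒵) :
    img φ (Points.mk p) = (ptHom p ≫ objMap φ p.obj) (IsLocalRing.closedPoint p.K) := by
  show (eqToHom (p.map φ).lies.symm ≫ (φ.obj p.obj).hom).left _ = _
  have : eqToHom (p.map φ).lies.symm ≫ (φ.obj p.obj).hom =
      eqToHom p.lies.symm ≫ (eqToHom (φ.w_obj p.obj).symm ≫ (φ.obj p.obj).hom) := by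
    rw [eqToHom_trans_assoc]
  rw [this]
  rfl

/-- Every point of the scheme of an object carries a field valued point mapping to the object. -/
theorem exists_fpt_at (h : FibCat.IsFibGrpd 𝒵.p) (x : 𝒵.obj) (q : sch 𝒵 x) :
    ∃ (p : FPt 𝒵) (m : p.obj ⟶ x), (ptHom p ≫ bmap 𝒵 m) (IsLocalRing.closedPoint p.K) = q := by
  obtain ⟨y, r, e, hr⟩ := Groth.L23.RelGen.exists_lift h
    (Over.homMk ((sch 𝒵 x).fromSpecResidueField q) rfl :
      Over.mk ((sch 𝒵 x).fromSpecResidueField q ≫ (𝒵.p.obj x).hom) ⟶ 𝒵.p.obj x)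
  refine ⟨{ K := ↥((sch 𝒵 x).residueField q), str := _, obj := y, lies := e }, r, ?_⟩
  have hb : (eqToHom e.symm).left ≫ bmap 𝒵 r = (sch 𝒵 x).fromSpecResidueField q := by
    show (eqToHom e.symm ≫ 𝒵.p.map r).left = _
    rw [hr, eqToHom_trans_assoc, eqToHom_refl, Category.id_comp]
    rfl
  show ((eqToHom e.symm).left ≫ bmap 𝒵 r) _ = q
  rw [hb]
  exact Scheme.fromSpecResidueField_apply q _

theorem isAffine_fpt (p : FPt 𝒵) : IsAffine (sch 𝒵 p.obj) :=
  haveI : IsIso (ptHom p) := inferInstanceAs (IsIso ((Over.forget S).map (eqToHom p.lies.symm)))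
  IsAffine.of_isIso (inv (ptHom p))

/-- The hypotheses satisfied by a good moduli morphism to an affine scheme. -/
structure AffGood (φ : 𝒵 ⥤ᵇ FibCat.overCat U) : Prop where
  isAlgStack : IsAlgStack Scheme.fppfPrecoverage 𝒵
  sur : ∀ ⦃A B : QCoh 𝒵⦄ (u : A ⟶ B), Mod.IsSurj u.hom → Function.Surjective (Mod.globSectMap u.hom)
  ex : ∀ a : (O 𝒵).GlobSect, ∃ f : Γ(U.left, ⊤), ∀ x : 𝒵.obj, fnAt a x = (objMap φ x).appTop f
  inj : ∀ f : Γ(U.left, ⊤), (∀ x : 𝒵.obj, (objMap φ x).appTop f = 0) → f = 0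

theorem notMem_basicOpen_of_eq_zero {W V : Scheme.{u}} (g : W ⟶ V) (f : Γ(V, ⊤)) (h : g.appTop f = 0) (w : W) :
    g w ∉ V.basicOpen f := fun hw => by
  have : w ∈ g ⁻¹ᵁ V.basicOpen f := hw
  rw [Scheme.preimage_basicOpen_top, h, Scheme.basicOpen_zero] at this
  exact this

theorem mem_range_iff {Q : 𝒵.obj → Prop} (h𝒵 : IsAlgStack Scheme.fppfPrecoverage 𝒵)
    (hQ : IsClosedSubstack 𝒵 Q Scheme.fppfPrecoverage) (P : Points 𝒵) :
    P ∈ Set.range (Points.map (subIncl 𝒵 Q)) ↔ ∃ p : FPt 𝒵, Q p.obj ∧ Points.mk p = P := by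
  constructor
  · rintro ⟨P', rfl⟩
    obtain ⟨p, rfl⟩ := Points.mk_surjective P'
    exact ⟨p.map (subIncl 𝒵 Q), p.obj.property, rfl⟩
  · rintro ⟨p, hp, rfl⟩
    exact ⟨Points.mk { K := p.K, str := p.str, obj := (⟨p.obj, hp⟩ : (fullSub 𝒵 Q).obj), lies := p.lies }, rfl⟩

variable {φ : 𝒵 ⥤ᵇ FibCat.overCat U}

namespace AffGood

variable (H : AffGood φ)
include H

/-- Disjoint closed sets are separated by a function on the base. -/
theorem exists_sep {C₁ C₂ : Set (Points 𝒵)} (h₁ : IsClosed C₁) (h₂ : IsClosed C₂) (hd : Disjoint C₁ C₂) :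
    ∃ f : Γ(U.left, ⊤), (∀ P ∈ C₁, img φ P ∉ U.left.basicOpen f) ∧ ∀ P ∈ C₂, img φ P ∈ U.left.basicOpen f := by
  have h𝒵 := H.isAlgStack
  have hfib := h𝒵.isStack.1
  obtain ⟨Q₁, hQ₁, hr₁, -⟩ := Groth.L09.Stack.exists_reduced_closedSubstack h𝒵 C₁ h₁
  obtain ⟨Q₂, hQ₂, hr₂, -⟩ := Groth.L09.Stack.exists_reduced_closedSubstack h𝒵 C₂ h₂
  obtain ⟨C⟩ := exists_flatChart h𝒵
  obtain ⟨a, b, hab⟩ := exists_separate h𝒵 hQ₁ hQ₂ C H.sur fun z hz₁ hz₂ => by
    by_contra hns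
    have : Nonempty (sch 𝒵 z.1) := by
      by_contra he
      haveI := not_nonempty_iff.1 he
      exact hns inferInstance
    obtain ⟨q⟩ := this
    obtain ⟨p, m, -⟩ := exists_fpt_at hfib z.1 q
    have hdl : Points.mk p ∈ C₁ → Points.mk p ∉ C₂ := fun h => Set.disjoint_left.1 hd h
    refine hdl ?_ ?_
    · rw [← hr₁]
      exact (mem_range_iff h𝒵 hQ₁ _).2 ⟨p, mem_of_hom hfib hQ₁ m hz₁, rfl⟩
    · rw [← hr₂]
      exact (mem_range_iff h𝒵 hQ₂ _).2 ⟨p, mem_of_hom hfib hQ₂ m hz₂, rfl⟩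
  obtain ⟨f, hf⟩ := H.ex a
  have key : ∀ {Q : 𝒵.obj → Prop} (hQ : IsClosedSubstack 𝒵 Q Scheme.fppfPrecoverage) (p : FPt 𝒵), Q p.obj →
      ∀ r : Fn p.obj, r ∈ vanIdeal Q p.obj → r = 0 := fun hQ p hp r hr => by
    have := mem_vanIdeal.1 hr p.obj (𝟙 _) hp
    rwa [fnMap, bmap_id, Scheme.Hom.id_appTop] at this
  refine ⟨f, fun P hP => ?_, fun P hP => ?_⟩
  · rw [← hr₁] at hP
    obtain ⟨p, hp, rfl⟩ := (mem_range_iff h𝒵 hQ₁ P).1 hP
    have h0 : (objMap φ p.obj).appTop f = 0 := by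
      rw [← hf]
      exact key hQ₁ p hp _ (hab ⟨p.obj, isAffine_fpt p⟩).1
    rw [img_mk, Scheme.Hom.comp_apply]
    exact notMem_basicOpen_of_eq_zero _ f h0 _
  · rw [← hr₂] at hP
    obtain ⟨p, hp, rfl⟩ := (mem_range_iff h𝒵 hQ₂ P).1 hP
    obtain ⟨-, hb, hsum⟩ := hab ⟨p.obj, isAffine_fpt p⟩
    rw [key hQ₂ p hp _ hb, add_zero, hf] at hsum
    rw [img_mk]
    show _ ∈ (ptHom p ≫ objMap φ p.obj) ⁻¹ᵁ U.left.basicOpen f
    rw [Scheme.Hom.comp_preimage, Scheme.preimage_basicOpen_top, hsum, Scheme.basicOpen_one]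
    trivial

/-- The stack is non-empty over a non-empty base. -/
theorem nonempty_points [Nonempty U.left] : Nonempty (Points 𝒵) := by
  by_contra h
  have h10 : (1 : Γ(U.left, ⊤)) = 0 := H.inj 1 fun x => by
    have : IsEmpty (sch 𝒵 x) := ⟨fun q => by
      obtain ⟨p, -, -⟩ := exists_fpt_at H.isAlgStack.isStack.1 x q
      exact h ⟨Points.mk p⟩⟩
    exact Subsingleton.elim _ _
  obtain ⟨w⟩ := ‹Nonempty U.left›
  have : U.left.basicOpen (1 : Γ(U.left, ⊤)) = U.left.basicOpen (0 : Γ(U.left, ⊤)) := by rw [h10]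
  rw [Scheme.basicOpen_one, Scheme.basicOpen_zero] at this
  exact (this.le (show w ∈ ⊤ from trivial) :)

end AffGood

end Groth.L09.GoodTop
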