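import Groth.Agent.L09.GoodTop.Top
import Groth.Agent.L24.St.AtlasCover
import Groth.Agent.L24.St.FpAlg
import Groth.Agent.L24.St.LocPStack

/-!
# Atlases of a good moduli morphism are schematically dominant after base change
-/

set_option autoImplicit false
set_option backward.isDefEq.respectTransparency false
set_option backward.isDefEq.respectTransparency.types false
set_option linter.style.haveILetI false
set_option linter.unusedVariables false
set_option linter.unusedSectionVars false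

universe u

open CategoryTheory CategoryTheory.Limits AlgebraicGeometry Opposite AlgSt StMod

noncomputable section

namespace Groth.L09.GoodTop

open Groth.L24.St Groth.L09.CohAffBC

variable {S : Scheme.{u}}

theorem overMap_inj {U V : Over S} {a b : U ⟶ V} (e : overMap a ≅ overMap b) : a = b := by
  have h := spMapOfOver_congr (whiskerL (toOverCat U) e)
  rw [spMapOfOver_overMap, spMapOfOver_overMap, spMapOfOver_toOverCat, Category.id_comp, Category.id_comp] at h
  exact (AlgSp.yon S).map_injective h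

theorem appTop_injective_of_flat_surjective {X Y : Scheme.{u}} (f : X ⟶ Y) [Flat f] [Surjective f] :
    Function.Injective f.appTop := by
  intro a b h
  refine TopCat.Presheaf.section_ext Y.sheaf ⊤ a b fun y _ => ?_
  obtain ⟨x, rfl⟩ := f.surjective y
  refine Groth.L19.stalkMap_injective_of_flat f x ?_
  show f.stalkMap x (Y.presheaf.germ ⊤ (f x) trivial a) = f.stalkMap x (Y.presheaf.germ ⊤ (f x) trivial b)
  rw [Scheme.Hom.germ_stalkMap_apply, Scheme.Hom.germ_stalkMap_apply]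
  exact congrArg _ h

/-- The map to the scheme at an object is read off from a classifying functor. -/
theorem objMap_eq_of_overMap {𝒵 : AlgSt.Cat S} {U : Over S} (φ : 𝒵 ⥤ᵇ FibCat.overCat U) {y : 𝒵.obj} {T : Over S}
    {G : FibCat.overCat T ⥤ᵇ 𝒵} {kG : T ⟶ U} (e : BasedFunctor.comp G φ ≅ overMap kG) (m : G.obj (idObj T) ≅ y) :
    ∃ c : sch 𝒵 y ⟶ T.left, objMap φ y = c ≫ kG.left := by
  let i := appIso e (idObj T)
  have hi : OverId i.hom := overId_of_lift (BasedNatTrans.isHomLift e.hom (a := idObj T) rfl)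
  obtain ⟨d, hd⟩ := hi.eq
  have h2 : objMap φ (G.obj (idObj T)) = (eqToHom (G.w_obj (idObj T))).left ≫ kG.left := by
    have h := Over.w i.hom
    have hd' : i.hom.left = eqToHom d := hd
    rw [hd'] at h
    show (eqToHom (φ.w_obj _).symm ≫ (φ.obj (G.obj (idObj T))).hom).left = _
    have h' : (φ.obj (G.obj (idObj T))).hom = eqToHom d ≫ ((overMap kG).obj (idObj T)).hom := h.symm
    rw [h', show ((overMap kG).obj (idObj T)).hom = kG from Category.id_comp kG, eqToHom_trans_assoc]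
    rfl
  exact ⟨bmap 𝒵 m.inv ≫ (eqToHom (G.w_obj (idObj T))).left, by rw [Category.assoc, ← h2, bmap_objMap]⟩

variable {𝒳 : AlgSt.Cat S} {M : AlgSp.Space S} (h𝒳 : IsAlgStack Scheme.fppfPrecoverage 𝒳)
  (hc : CompactFibres M.obj) (π : 𝒳 ⥤ᵇ AlgSt.ofSp M.obj)
  (hqc : AlgSt.IsQuasiCompactMor Scheme.fppfPrecoverage π) (hqs : AlgSt.IsQuasiSeparatedMor π)
  (h : IsGoodModuli π)
include h𝒳 hc hqc hqs h

/-- A function on an affine base change vanishing on the base change of an atlas vanishes. -/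
theorem eq_zero_of_pullback_atlas {U : Over S} (g : (AlgSp.yon S).obj U ⟶ M.obj) {W : Over S}
    {x : FibCat.overCat W ⥤ᵇ FibCat.fp (AlgSt.ofSpMap g) π} (hx : RepByAlgSpWith (AlgSp.LocP @Smooth) x)
    (hxs : RepByAlgSpWith AlgSp.IsSurjectiveMor x) {kW : W ⟶ U}
    (eW : BasedFunctor.comp x (bcMap π g) ≅ overMap kW) {U' : Over S} (hU' : IsAffine U'.left) (k : U' ⟶ U)
    {P : Scheme.{u}} {p₁ : P ⟶ U'.left} {p₂ : P ⟶ W.left} (sq : IsPullback p₁ p₂ k.left kW.left)
    (r : Γ(U'.left, ⊤)) (hr : p₁.appTop r = 0) : r = 0 := by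
  let g' : (AlgSp.yon S).obj U' ⟶ M.obj := (AlgSp.yon S).map k ≫ g
  let V : AlgSp.Space S := ⟨(AlgSp.yon S).obj U, AlgSp.IsAlgSpace.yon_obj U⟩
  let gV : V.obj ⟶ M.obj := g
  have h𝒵 := Groth.L24.St.isAlgStack_fp (Groth.L09.Gerbe.isAlgStack_ofSp V) h𝒳
    (Groth.L09.Gerbe.isAlgStack_ofSp M) (AlgSt.ofSpMap gV) π
  have H := affGood_fp h𝒳 hc π hqc hqs h hU' g'
  let Θ : FibCat.fp (AlgSt.ofSpMap g') π ⥤ᵇ FibCat.fp (AlgSt.ofSpMap g) π :=
    FibCat.fpLift (BasedFunctor.comp (FibCat.fpFst (AlgSt.ofSpMap g') π) (AlgSt.ofSpMap ((AlgSp.yon S).map k)))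
      (FibCat.fpSnd (AlgSt.ofSpMap g') π) ((FibCat.fpIso (AlgSt.ofSpMap g') π) :)
  refine H.inj r fun y => ?_
  obtain ⟨G, φ₀, -⟩ := exists_overCat_functor H.isAlgStack.isStack.1 y rfl
  obtain ⟨kG, ⟨eG⟩, -⟩ := exists_overMap_iso (BasedFunctor.comp G (bcMap π g'))
  obtain ⟨c, hcG⟩ := objMap_eq_of_overMap (bcMap π g') eG φ₀
  obtain ⟨W', ψ, ρ, hψ, ⟨i⟩, hsurj⟩ := exists_chart_square h𝒵.isStack.1 (x := BasedFunctor.comp G Θ) hx
  haveI : Smooth ψ.left := hψ
  haveI : Surjective ψ.left := ⟨fun t => by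
    obtain ⟨v, hv⟩ := surjective_ofChart_of_repWith h𝒵.isStack.1 hxs (Points.ofChart (BasedFunctor.comp G Θ) t)
    obtain ⟨w, hw, -⟩ := hsurj t v hv.symm
    exact ⟨w, hw⟩⟩
  have heq : ψ ≫ kG ≫ k = ρ ≫ kW := overMap_inj (
    overMapCompIso ψ (kG ≫ k) ≪≫ whiskerL (overMap ψ) (overMapCompIso kG k ≪≫ whiskerR eG.symm (overMap k)) ≪≫
      (whiskerR i (bcMap π g) :) ≪≫ whiskerL (overMap ρ) eW ≪≫ (overMapCompIso ρ kW).symm)
  have h0 : kG.left.appTop r = 0 := by
    refine appTop_injective_of_flat_surjective ψ.left ?_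
    rw [map_zero, ← CommRingCat.comp_apply, ← Scheme.Hom.comp_appTop]
    have e := congrArg CommaMorphism.left heq
    simp only [Over.comp_left] at e
    rw [← sq.lift_fst (ψ.left ≫ kG.left) ρ.left (by rw [Category.assoc]; exact e), Scheme.Hom.comp_appTop,
      CommRingCat.comp_apply, hr, map_zero]
  rw [hcG, Scheme.Hom.comp_appTop, CommRingCat.comp_apply, h0, map_zero]

omit hqs h hc

/-- A smooth surjective affine atlas of an affine base change. -/
theorem exists_atlas_fp {U : Over S} (hU : IsAffine U.left) (g : (AlgSp.yon S).obj U ⟶ M.obj) :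
    ∃ (W : Over S) (x : FibCat.overCat W ⥤ᵇ FibCat.fp (AlgSt.ofSpMap g) π) (kW : W ⟶ U),
      IsAffine W.left ∧ RepByAlgSpWith (AlgSp.LocP @Smooth) x ∧ RepByAlgSpWith AlgSp.IsSurjectiveMor x ∧
        Nonempty (BasedFunctor.comp x (bcMap π g) ≅ overMap kW) ∧
        (AlgSp.RepWith @Etale g →
          RepByAlgSpWith (AlgSp.LocP @Smooth) (BasedFunctor.comp x (FibCat.fpSnd (AlgSt.ofSpMap g) π))) := by
  let V : AlgSp.Space S := ⟨(AlgSp.yon S).obj U, AlgSp.IsAlgSpace.yon_obj U⟩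
  let g' : V.obj ⟶ M.obj := g
  have h𝒵 := Groth.L24.St.isAlgStack_fp (Groth.L09.Gerbe.isAlgStack_ofSp V) h𝒳
    (Groth.L09.Gerbe.isAlgStack_ofSp M) (AlgSt.ofSpMap g') π
  obtain ⟨W, x, hW, hx, hxs⟩ := hqc (AlgSt.ofSp V.obj) (Groth.L09.Gerbe.isAlgStack_ofSp V)
    ((isQuasiCompact_iff_of_isEquivOver (toOverCat_isEquivOver U)).2 (isQuasiCompact_overCat U)) (AlgSt.ofSpMap g')
  obtain ⟨k, he, -⟩ := exists_overMap_iso (BasedFunctor.comp x (bcMap π g))
  refine ⟨W, x, k, hW, hx, hxs, he, fun het => ?_⟩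
  refine repWith_comp_locP Groth.L23.etLocal_smooth (overCat_isFibGrpd W) h𝒵.isStack.1 hx (repWith_fpSnd π ?_)
  refine (repWith_precomp (ofOverCat_isEquivOver U) (AlgSt.ofSpMap g)).1 ?_
  exact repWith_spChart_locP Groth.L23.etLocal_smooth M.property het

end Groth.L09.GoodTop
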