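import Groth.Agent.L09.GoodTop.Closed
import Groth.Prelude.Def_StCoarse
import Mathlib.FieldTheory.IsAlgClosed.AlgebraicClosure

/-!
# Bijectivity on geometric points gives universal injectivity
-/

set_option autoImplicit false
set_option backward.isDefEq.respectTransparency false
set_option backward.isDefEq.respectTransparency.types false
set_option linter.style.haveILetI false
set_option linter.unusedVariables false
set_option linter.unusedSectionVars false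

universe u

open CategoryTheory CategoryTheory.Limits AlgebraicGeometry Opposite AlgSt

noncomputable section

namespace Groth.L09.GoodTop

open Groth.L24.St

variable {S : Scheme.{u}} {𝒳 : AlgSt.Cat S} {M : AlgSp.Sp S}

theorem map_eqToHom_comp {P : (Over S)ᵒᵖ ⥤ Type (u + 1)} {A B T : Over S} (a : T = A) (e : A = B) (b : T = B)
    (s : P.obj (op B)) : P.map (eqToHom a).op (P.map (eqToHom e).op s) = P.map (eqToHom b).op s := by
  subst a e
  simp

/-- A morphism over an identity between images gives equal sections. -/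
theorem fibSec_eq_of_hom (π : 𝒳 ⥤ᵇ ofSp M) {T : Over S} (x y : 𝒳.p.Fiber T) (f : π.obj x.1 ⟶ π.obj y.1)
    (hf : OverId f) : fibSec π x = fibSec π y := by
  obtain ⟨e, he⟩ := hf.eq
  have he' : f.hom = eqToHom e := he
  show M.obj.map _ _ = M.obj.map _ _
  rw [← f.map_sec, he']
  exact map_eqToHom_comp _ e _ _

/-- A functor bijective on geometric points is injective on points after every base change. -/
theorem isUnivInjective_of_geomPtBij (h𝒳 : FibCat.IsFibGrpd 𝒳.p) {π : 𝒳 ⥤ᵇ ofSp M} (ht : GeomPtBij π) :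
    IsUnivInjective Scheme.fppfPrecoverage π := by
  intro 𝒵 h𝒵 g P₁ P₂ he
  obtain ⟨p₁, rfl⟩ := Points.mk_surjective P₁
  obtain ⟨p₂, rfl⟩ := Points.mk_surjective P₂
  obtain ⟨r, α, β, -⟩ := (mk_eq_mk_iff h𝒵.isStack.1 (p := p₁.map (FibCat.fpFst g π))
    (q := p₂.map (FibCat.fpFst g π))).1 he
  let Ω := AlgebraicClosure r.K
  let t : Spec (CommRingCat.of Ω) ⟶ S := Spec.map (CommRingCat.ofHom (algebraMap r.K Ω)) ≫ r.str
  let c : Over.mk t ⟶ 𝒵.p.obj r.obj :=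
    (Over.homMk (Spec.map (CommRingCat.ofHom (algebraMap r.K Ω))) rfl : Over.mk t ⟶ Over.mk r.str) ≫ eqToHom r.lies.symm
  obtain ⟨r', φ, e, -⟩ := Groth.L23.RelGen.exists_lift h𝒵.isStack.1 c
  obtain ⟨x₁, k₁, hk₁, m₁, -⟩ := exists_fp_lift_fst h𝒳 (Groth.L24.St.ofSp_isFibGrpd M) p₁.obj
    (φ ≫ α : r' ⟶ p₁.obj.obj.fst)
  obtain ⟨x₂, k₂, hk₂, m₂, -⟩ := exists_fp_lift_fst h𝒳 (Groth.L24.St.ofSp_isFibGrpd M) p₂.obj
    (φ ≫ β : r' ⟶ p₂.obj.obj.fst)
  have hx : ∀ {x : 𝒳.obj} {k : g.obj r' ≅ π.obj x}, OverId k.hom → 𝒳.p.obj x = Over.mk t := fun hk => by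
    obtain ⟨a, -⟩ := hk.eq
    exact (π.w_obj _).symm.trans (a.symm.trans ((g.w_obj r').trans e))
  let y₁ : 𝒳.p.Fiber (Over.mk t) := ⟨x₁, hx hk₁⟩
  let y₂ : 𝒳.p.Fiber (Over.mk t) := ⟨x₂, hx hk₂⟩
  obtain ⟨i⟩ := (ht Ω t).2 y₁ y₂ (fibSec_eq_of_hom π y₁ y₂ (k₁.inv ≫ k₂.hom) (hk₁.inv.comp hk₂))
  let i' : x₁ ≅ x₂ := ⟨i.hom.1, i.inv.1, congrArg Subtype.val i.hom_inv_id, congrArg Subtype.val i.inv_hom_id⟩
  have hi' : OverId i'.hom := overId_of_lift i.hom.2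
  obtain ⟨a, ha⟩ := (hk₁.comp (hi'.map π)).eq
  obtain ⟨b, hb⟩ := hk₂.eq
  let j : fpObj r' x₁ k₁ hk₁ ≅ fpObj r' x₂ k₂ hk₂ := fpIsoMk (Iso.refl _) i' (by
    refine Stk.EltObj.hom_ext ?_
    show (g.map (𝟙 r') ≫ k₂.hom).hom = (k₁.hom ≫ π.map i'.hom).hom
    rw [show g.map (𝟙 r') = 𝟙 _ from g.toFunctor.map_id r', Category.id_comp, show k₂.hom.hom = eqToHom b from hb,
      show (k₁.hom ≫ π.map i'.hom).hom = eqToHom a from ha])
  exact Points.sound ⟨⟨Ω, t, fpObj r' x₁ k₁ hk₁, e⟩, m₁, j.hom ≫ m₂, trivial⟩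

end Groth.L09.GoodTop
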