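import Groth.Agent.L09.GoodTop.Closed
import Groth.Agent.L09.GoodTop.Tame
import Groth.Agent.L23.EmbedSpace
import Groth.Agent.L23.PointProps
import Groth.Agent.L24.St.Spectral
import Groth.Agent.L24.St.AlgStackInv
import Groth.Agent.L24.QuotMor.Desc

/-!
# Separation of a tame moduli space
-/

set_option autoImplicit false
set_option backward.isDefEq.respectTransparency false
set_option backward.isDefEq.respectTransparency.types false
set_option linter.style.haveILetI false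
set_option linter.unusedVariables false
set_option linter.unusedSectionVars false

universe u

open CategoryTheory CategoryTheory.Limits AlgebraicGeometry Opposite AlgSt StMod

noncomputable section

namespace Groth.L09.GoodTop

open Groth.L24.St

variable {S : Scheme.{u}} {𝒲 𝒜 ℬ 𝒳 𝒩 𝒵 : AlgSt.Cat S}

theorem isAlgStack_selfOver : IsAlgStack Scheme.fppfPrecoverage (FibCat.selfOver (Over S)) :=
  isAlgStack_of_equiv toSelf_isEquivOver_of_terminal (isAlgStack_overCat (Over.mk (𝟙 S)))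

theorem isAlgStack_prod (hA : IsAlgStack Scheme.fppfPrecoverage 𝒜) (hB : IsAlgStack Scheme.fppfPrecoverage ℬ) :
    IsAlgStack Scheme.fppfPrecoverage (FibCat.fp (FibCat.toSelf 𝒜) (FibCat.toSelf ℬ)) :=
  Groth.L24.St.isAlgStack_fp hA hB isAlgStack_selfOver _ _

theorem self_hom_eq {a b : (FibCat.selfOver (Over S)).obj} {u v : a ⟶ b} (hu : OverId u) (hv : OverId v) : u = v := by
  obtain ⟨c, hc⟩ := hu.eq
  obtain ⟨d, hd⟩ := hv.eq
  exact hc.trans hd.symm

/-- A pair of functors into a product. -/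
def prodLift (a : 𝒲 ⥤ᵇ 𝒜) (b : 𝒲 ⥤ᵇ ℬ) : 𝒲 ⥤ᵇ FibCat.fp (FibCat.toSelf 𝒜) (FibCat.toSelf ℬ) :=
  FibCat.fpLift a b (eqToIso (selfOver_ext _ _))

/-- Functors into a product with isomorphic components are isomorphic. -/
def prodIso {F G : 𝒲 ⥤ᵇ FibCat.fp (FibCat.toSelf 𝒜) (FibCat.toSelf ℬ)}
    (i : BasedFunctor.comp F (FibCat.fpFst _ _) ≅ BasedFunctor.comp G (FibCat.fpFst _ _))
    (j : BasedFunctor.comp F (FibCat.fpSnd _ _) ≅ BasedFunctor.comp G (FibCat.fpSnd _ _)) : F ≅ G :=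
  mkIso2 (fun w => fpIsoMk (appIso i w) (appIso j w)
      (self_hom_eq (((overId_app i.hom w).map (FibCat.toSelf 𝒜)).comp (fp_overId _))
        ((fp_overId _).comp ((overId_app j.hom w).map (FibCat.toSelf ℬ)))))
    (fun w w' m => fp_ext (i.hom.toNatTrans.naturality m) (j.hom.toNatTrans.naturality m))
    (fun w => overId_fp _ (overId_app i.hom w))

/-- The base change of a functor in a product. -/
abbrev prodMapL (π : 𝒳 ⥤ᵇ 𝒩) (𝒵 : AlgSt.Cat S) :
    FibCat.fp (FibCat.toSelf 𝒳) (FibCat.toSelf 𝒵) ⥤ᵇ FibCat.fp (FibCat.toSelf 𝒩) (FibCat.toSelf 𝒵) :=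
  prodLift (BasedFunctor.comp (FibCat.fpFst _ _) π) (FibCat.fpSnd _ _)

theorem isClosedMor_prodMapL {π : 𝒳 ⥤ᵇ 𝒩} (h : IsUnivClosed Scheme.fppfPrecoverage π)
    (h𝒳 : IsAlgStack Scheme.fppfPrecoverage 𝒳) (h𝒩 : IsAlgStack Scheme.fppfPrecoverage 𝒩)
    (h𝒵 : IsAlgStack Scheme.fppfPrecoverage 𝒵) : IsClosedMor (prodMapL π 𝒵) := by
  let P := FibCat.fp (FibCat.toSelf 𝒩) (FibCat.toSelf 𝒵)
  let p₁ := FibCat.fpFst (FibCat.toSelf 𝒩) (FibCat.toSelf 𝒵)
  let Γ : FibCat.fp p₁ π ⥤ᵇ FibCat.fp (FibCat.toSelf 𝒳) (FibCat.toSelf 𝒵) :=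
    prodLift (FibCat.fpSnd p₁ π) (BasedFunctor.comp (FibCat.fpFst p₁ π) (FibCat.fpSnd _ _))
  let E : FibCat.fp (FibCat.toSelf 𝒳) (FibCat.toSelf 𝒵) ⥤ᵇ FibCat.fp p₁ π :=
    FibCat.fpLift (prodMapL π 𝒵) (FibCat.fpFst _ _) (Iso.refl (BasedFunctor.comp (FibCat.fpFst (FibCat.toSelf 𝒳) (FibCat.toSelf 𝒵)) π) :)
  have i₁ : BasedFunctor.comp E Γ ≅ BasedFunctor.id _ := prodIso (Iso.refl (FibCat.fpFst (FibCat.toSelf 𝒳) (FibCat.toSelf 𝒵)) :) (Iso.refl (FibCat.fpSnd (FibCat.toSelf 𝒳) (FibCat.toSelf 𝒵)) :)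
  have i₂ : BasedFunctor.comp Γ (prodMapL π 𝒵) ≅ FibCat.fpFst p₁ π :=
    prodIso ((FibCat.fpIso p₁ π).symm :) (Iso.refl (BasedFunctor.comp (FibCat.fpFst p₁ π) (FibCat.fpSnd _ _)) :)
  intro C hC
  have himg : Points.map (prodMapL π 𝒵) '' C = Points.map (FibCat.fpFst p₁ π) '' (Points.map Γ ⁻¹' C) := by
    ext y
    constructor
    · rintro ⟨P₀, hP₀, rfl⟩
      refine ⟨Points.map E P₀, ?_, ?_⟩
      · show Points.map Γ (Points.map E P₀) ∈ C
        rwa [← map_comp_apply, map_congr i₁, map_id_apply]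
      · rw [← map_comp_apply]
        rfl
    · rintro ⟨Q, hQ, rfl⟩
      exact ⟨_, hQ, by rw [← map_comp_apply, map_congr i₂]⟩
  rw [himg]
  exact h P (isAlgStack_prod h𝒩 h𝒵) p₁ _ (hC.preimage (continuous_map (isAlgStack_prod h𝒳 h𝒵) Γ))

variable {M : AlgSp.Space S} {π : 𝒳 ⥤ᵇ AlgSt.ofSp M.obj}

/-- The two-sided map of products, with the factors exchanged. -/
abbrev prodMap₂ (π : 𝒳 ⥤ᵇ AlgSt.ofSp M.obj) :
    FibCat.fp (FibCat.toSelf 𝒳) (FibCat.toSelf 𝒳) ⥤ᵇ
      FibCat.fp (FibCat.toSelf (AlgSt.ofSp M.obj)) (FibCat.toSelf (AlgSt.ofSp M.obj)) :=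
  prodLift (BasedFunctor.comp (FibCat.fpFst _ _) π) (BasedFunctor.comp (FibCat.fpSnd _ _) π)

theorem isClosedMor_prodMap₂ (h𝒳 : IsAlgStack Scheme.fppfPrecoverage 𝒳)
    (h : IsUnivClosed Scheme.fppfPrecoverage π) : IsClosedMor (prodMap₂ π) := by
  have hM := Groth.L09.Gerbe.isAlgStack_ofSp M
  let A := prodMapL π 𝒳
  let B := prodMapL π (AlgSt.ofSp M.obj)
  let σ := fpSwap (F := FibCat.toSelf (AlgSt.ofSp M.obj)) (G := FibCat.toSelf 𝒳)
  let τ := fpSwap (F := FibCat.toSelf (AlgSt.ofSp M.obj)) (G := FibCat.toSelf (AlgSt.ofSp M.obj))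
  have hA := isClosedMor_prodMapL (𝒵 := 𝒳) h h𝒳 hM h𝒳
  have hB := isClosedMor_prodMapL (𝒵 := AlgSt.ofSp M.obj) h h𝒳 hM hM
  have hσ := (isHomeomorph_map_of_isEquivOver
    (fpSwap_isEquivOver (F := FibCat.toSelf (AlgSt.ofSp M.obj)) (G := FibCat.toSelf 𝒳))).isClosedMap
  have hτ := (isHomeomorph_map_of_isEquivOver
    (fpSwap_isEquivOver (F := FibCat.toSelf (AlgSt.ofSp M.obj)) (G := FibCat.toSelf (AlgSt.ofSp M.obj)))).isClosedMap
  have i : BasedFunctor.comp (BasedFunctor.comp (BasedFunctor.comp A σ) B) τ ≅ prodMap₂ π :=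
    prodIso (Iso.refl (BasedFunctor.comp (FibCat.fpFst _ _) π) :)
      (Iso.refl (BasedFunctor.comp (FibCat.fpSnd _ _) π) :)
  intro C hC
  have e : Points.map (prodMap₂ π) '' C =
      Points.map τ '' (Points.map B '' (Points.map σ '' (Points.map A '' C))) := by
    rw [Set.image_image, Set.image_image, Set.image_image]
    exact Set.image_congr fun x _ => by
      rw [← map_comp_apply, ← map_comp_apply, ← map_comp_apply]
      exact (map_congr i).symm ▸ rfl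
  rw [e]
  exact hτ _ (hB _ (hσ _ (hA _ hC)))

/-- For a functor injective after every base change the diagonal is the preimage of the diagonal. -/
theorem range_diag_eq (h𝒳 : IsAlgStack Scheme.fppfPrecoverage 𝒳)
    (hi : IsUnivInjective Scheme.fppfPrecoverage π) :
    Set.range (Points.map (FibCat.diag (FibCat.toSelf 𝒳))) =
      Points.map (prodMap₂ π) ⁻¹' Set.range (Points.map (FibCat.diag (FibCat.toSelf (AlgSt.ofSp M.obj)))) := by
  let dM := FibCat.diag (FibCat.toSelf (AlgSt.ofSp M.obj))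
  have hM := Groth.L09.Gerbe.isAlgStack_ofSp M
  have i₀ : BasedFunctor.comp (FibCat.diag (FibCat.toSelf 𝒳)) (prodMap₂ π) ≅ BasedFunctor.comp π dM :=
    prodIso (Iso.refl π :) (Iso.refl π :)
  refine Set.Subset.antisymm ?_ fun P hP => ?_
  · rintro _ ⟨Q, rfl⟩
    exact ⟨Points.map π Q, by rw [← map_comp_apply, ← map_comp_apply, map_congr i₀]⟩
  obtain ⟨m, hm⟩ := hP
  obtain ⟨w, -, hw₂⟩ := exists_points_fp (isAlgStack_prod h𝒳 h𝒳).isStack.1 (isAlgStack_prod hM hM).isStack.1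
    hM.isStack.1 (prodMap₂ π) dM m P hm
  let q₁ := FibCat.fpFst dM (prodMap₂ π)
  let q₂ := FibCat.fpSnd dM (prodMap₂ π)
  have a₁ : q₁ ≅ BasedFunctor.comp (BasedFunctor.comp q₂ (FibCat.fpFst _ _)) π :=
    whiskerR (FibCat.fpIso dM (prodMap₂ π)) (FibCat.fpFst _ _)
  have a₂ : q₁ ≅ BasedFunctor.comp (BasedFunctor.comp q₂ (FibCat.fpSnd _ _)) π :=
    whiskerR (FibCat.fpIso dM (prodMap₂ π)) (FibCat.fpSnd _ _)
  let K : FibCat.fp dM (prodMap₂ π) ⥤ᵇ FibCat.fp π π :=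
    FibCat.fpLift (BasedFunctor.comp q₂ (FibCat.fpFst _ _)) (BasedFunctor.comp q₂ (FibCat.fpSnd _ _))
      (a₁.symm ≪≫ a₂)
  let I : FibCat.fp π π ⥤ᵇ FibCat.fp (FibCat.toSelf 𝒳) (FibCat.toSelf 𝒳) :=
    prodLift (FibCat.fpFst π π) (FibCat.fpSnd π π)
  have iK : BasedFunctor.comp K I ≅ q₂ :=
    prodIso (Iso.refl (BasedFunctor.comp q₂ (FibCat.fpFst _ _)) :) (Iso.refl (BasedFunctor.comp q₂ (FibCat.fpSnd _ _)) :)
  have iI : BasedFunctor.comp (FibCat.diag π) I ≅ FibCat.diag (FibCat.toSelf 𝒳) :=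
    prodIso (Iso.refl (BasedFunctor.id 𝒳) :) (Iso.refl (BasedFunctor.id 𝒳) :)
  have he : Points.map (FibCat.diag π) (Points.map (FibCat.fpFst π π) (Points.map K w)) = Points.map K w := by
    refine hi 𝒳 h𝒳 π ?_
    rw [← map_comp_apply]
    exact map_id_apply _
  refine ⟨Points.map (FibCat.fpFst π π) (Points.map K w), ?_⟩
  rw [← map_congr iI, map_comp_apply, he, ← map_comp_apply, map_congr iK, hw₂]

/-- Separation read on the space of points of the product. -/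
theorem isSeparatedSp_iff_range (hls : AlgSp.IsLocallySeparatedSp M.obj) :
    AlgSp.IsSeparatedSp M.obj ↔
      IsClosed (Set.range (Points.map (FibCat.diag (FibCat.toSelf (AlgSt.ofSp M.obj))))) := by
  let T : Over S := Over.mk (𝟙 S)
  let ht : IsTerminal ((AlgSp.yon S).obj T) := IsTerminal.isTerminalObj (AlgSp.yon S) _ Over.mkIdTerminal
  let a : M.obj ⟶ (AlgSp.yon S).obj T := ht.from _
  have sq : IsPullback (prod.fst : M.obj ⨯ M.obj ⟶ M.obj) prod.snd a a :=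
    IsPullback.mk' (ht.hom_ext _ _) (fun _ _ _ h₁ h₂ => prod.hom_ext h₁ h₂)
      fun _ c d _ => ⟨prod.lift c d, prod.lift_fst _ _, prod.lift_snd _ _⟩
  let sqp := sq.map (sheafToPresheaf (AlgSp.J S) (Type (u + 1)))
  let b := BasedFunctor.comp (toOverCat T) (FibCat.toSelf (FibCat.overCat T))
  have hb : FibCat.IsEquivOver b := isEquivOver_comp (toOverCat_isEquivOver T) toSelf_isEquivOver_of_terminal
  let D := fpMap (F := FibCat.toSelf (AlgSt.ofSp M.obj)) (G := FibCat.toSelf (AlgSt.ofSp M.obj))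
    (F' := BasedFunctor.comp (AlgSt.ofSpMap a) b) (G' := BasedFunctor.comp (AlgSt.ofSpMap a) b)
    (BasedFunctor.id _) (BasedFunctor.id _) (eqToIso (selfOver_ext _ _)) (eqToIso (selfOver_ext _ _))
  let L : AlgSt.ofSp (M.obj ⨯ M.obj) ⥤ᵇ
      FibCat.fp (FibCat.toSelf (AlgSt.ofSp M.obj)) (FibCat.toSelf (AlgSt.ofSp M.obj)) :=
    BasedFunctor.comp (pshFp sqp.w) (BasedFunctor.comp (fpPost _ _ b) D)
  have hL : FibCat.IsEquivOver L := isEquivOver_comp (pshFp_isEquivOver sqp)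
    (isEquivOver_comp (fpPost_isEquivOver _ _ hb) (fpMap_isEquivOver (isEquivOver_id _) (isEquivOver_id _) _ _))
  have hfun : ∀ (c : M.obj ⨯ M.obj ⟶ M.obj), (Limits.diag M.obj ≫ c = 𝟙 _) →
      Nonempty (BasedFunctor.comp (AlgSt.ofSpMap (Limits.diag M.obj)) (AlgSt.ofSpMap c) ≅ BasedFunctor.id _) := fun c hcd =>
    ⟨eqToIso (Groth.L24.QuotMor.basedFunctor_ext fun A => by
      refine congrArg (fun z => M.obj.obj.map _ z) ?_
      show c.hom.app _ ((Limits.diag M.obj).hom.app _ A.sec) = A.sec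
      rw [← NatTrans.comp_app_apply]
      exact congrArg (fun t : M.obj ⟶ M.obj => t.hom.app _ A.sec) hcd)⟩
  obtain ⟨i₁⟩ := hfun prod.fst (prod.lift_fst _ _)
  obtain ⟨i₂⟩ := hfun prod.snd (prod.lift_snd _ _)
  have iL : BasedFunctor.comp (AlgSt.ofSpMap (Limits.diag M.obj)) L ≅ FibCat.diag (FibCat.toSelf (AlgSt.ofSp M.obj)) :=
    prodIso i₁ i₂
  let MM : AlgSp.Space S := ⟨M.obj ⨯ M.obj, Groth.L23.EmbedSpace.isAlgSpace_prod M.property M.property⟩
  let e₁ := (ptMap_isHomeomorph M).homeomorph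
  let e₂ := ((ptMap_isHomeomorph MM).homeomorph).trans (isHomeomorph_map_of_isEquivOver hL).homeomorph
  have key : Set.range (Points.map (FibCat.diag (FibCat.toSelf (AlgSt.ofSp M.obj)))) =
      e₂ '' Set.range (AlgSp.Points.map (Limits.diag M.obj)) := by
    rw [← Set.range_comp, ← (ptMap_bijective M.obj).surjective.range_comp]
    refine congrArg Set.range (funext fun x => ?_)
    show Points.map _ (ptMap M.obj x) = Points.map L (ptMap MM.obj (AlgSp.Points.map (Limits.diag M.obj) x))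
    refine Eq.trans ?_ (congrArg (Points.map L) (ptMap_map (Limits.diag M.obj) x))
    rw [← map_comp_apply, map_congr iL]
  rw [key, e₂.isClosed_image]
  exact Groth.L23.repWith_isClosedImmersion_iff hls

/-- A tame moduli space is separated exactly when the diagonal of the stack has closed image. -/
theorem isSeparatedSp_iff_of_tame (h𝒳 : IsAlgStack Scheme.fppfPrecoverage 𝒳)
    (hls : AlgSp.IsLocallySeparatedSp M.obj) (hs : IsSurjective π)
    (hc : IsUnivClosed Scheme.fppfPrecoverage π) (hi : IsUnivInjective Scheme.fppfPrecoverage π) :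
    AlgSp.IsSeparatedSp M.obj ↔ IsClosed (Set.range (Points.map (FibCat.diag (FibCat.toSelf 𝒳)))) := by
  have hM := Groth.L09.Gerbe.isAlgStack_ofSp M
  rw [isSeparatedSp_iff_range hls, range_diag_eq h𝒳 hi]
  refine ⟨fun h => h.preimage (continuous_map (isAlgStack_prod hM hM) _), fun h => ?_⟩
  have hsub : Set.range (Points.map (FibCat.diag (FibCat.toSelf (AlgSt.ofSp M.obj)))) =
      Points.map (prodMap₂ π) '' (Points.map (prodMap₂ π) ⁻¹'
        Set.range (Points.map (FibCat.diag (FibCat.toSelf (AlgSt.ofSp M.obj))))) := by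
    refine Set.Subset.antisymm ?_ (Set.image_preimage_subset _ _)
    rintro _ ⟨m, rfl⟩
    obtain ⟨Q, rfl⟩ := hs m
    have i₀ : BasedFunctor.comp (FibCat.diag (FibCat.toSelf 𝒳)) (prodMap₂ π) ≅
        BasedFunctor.comp π (FibCat.diag (FibCat.toSelf (AlgSt.ofSp M.obj))) :=
      prodIso (Iso.refl π :) (Iso.refl π :)
    refine ⟨Points.map (FibCat.diag (FibCat.toSelf 𝒳)) Q, ⟨Points.map π Q, ?_⟩, ?_⟩
    · rw [← map_comp_apply, ← map_comp_apply, map_congr i₀]
    · rw [← map_comp_apply, ← map_comp_apply, map_congr i₀]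
  rw [hsub]
  exact isClosedMor_prodMap₂ h𝒳 hc _ h

end Groth.L09.GoodTop
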