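import Groth.Agent.L09.GoodTop.Ideal
import Groth.Agent.L09.CohAffBC.QCoh

/-!
# Functions separating disjoint closed substacks
-/

set_option autoImplicit false
set_option backward.isDefEq.respectTransparency false
set_option backward.isDefEq.respectTransparency.types false
set_option linter.style.haveILetI false
set_option linter.unusedVariables false
set_option linter.unusedSectionVars false

universe t u

open CategoryTheory CategoryTheory.Limits AlgebraicGeometry Opposite AlgSt StMod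
open scoped TensorProduct

noncomputable section

namespace Groth.L09.GoodTop

open Groth.L23.RelGen Groth.L09.CohAffBC Groth.L23.TwDesc

variable {S : Scheme.{u}} {𝒳 : AlgSt.Cat S}

/-- A section of the structure sheaf as a function. -/
abbrev asFn (x : 𝒳.obj) (m : Sec (OQ 𝒳).obj x) : Fn x := m

/-- The value of a global function at an object. -/
abbrev fnAt (a : (O 𝒳).GlobSect) (x : 𝒳.obj) : Fn x := a.1 x

/-- A natural linear map from a datum to functions induces a morphism to the structure sheaf. -/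
theorem exists_valMap (C : FlatChart.{t} 𝒳) (D : FlatDatum 𝒳) (e : ∀ x : AObj 𝒳, D.H x →ₗ[Fn x.1] Fn x.1)
    (he : ∀ {x' x : AObj 𝒳} (φ : x'.1 ⟶ x.1) (m : D.H x), e x' (D.res φ m) = fnMap φ (e x m)) :
    ∃ u : C.qcoh D ⟶ OQ 𝒳, ∀ (x : AObj 𝒳) (s : Sec (C.qcoh D).obj x.1),
      asFn x.1 ((u.hom.app x.1).app ⊤ s) = e x (C.eps D x s) := by
  let θ : ∀ j : C.Piece, Sec (C.qcoh D).obj j.y.1 →ₗ[Fn j.y.1] Sec (OQ 𝒳).obj j.y.1 := fun j =>
    { toFun := fun s => (e j.y (C.eps D j.y s) : Fn j.y.1)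
      map_add' := fun a b => by simp only [map_add]
      map_smul' := fun r a => by rw [C.eps_smul, map_smul]; rfl }
  obtain ⟨φ, hφ⟩ := C.pieces.exists_hom (OQ 𝒳).property.1 (OQ 𝒳).property.2 θ fun j' j β m => by
    show (e j'.y (C.eps D j'.y ((C.qcoh D).obj.mapTop β m)) : Fn j'.y.1) = fnMap β (e j.y (C.eps D j.y m))
    rw [C.eps_mapTop, he]
    rfl
  refine ⟨ObjectProperty.homMk φ, fun x s => ?_⟩
  obtain ⟨𝒰, -⟩ := exists_pcov (P := C.pieces) x.2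
  haveI := x.2
  refine 𝒰.toCover.ext (OQ 𝒳).property.1 (OQ 𝒳).property.2 _ _ fun l => ?_
  show (OQ 𝒳).obj.mapTop (𝒰.map l) ((φ.app x.1).app ⊤ s) = fnMap (𝒰.map l) (e x (C.eps D x s))
  rw [Mod.mapTop_app]
  refine (hφ (𝒰.j l) _).trans ?_
  show e (𝒰.j l).y (C.eps D (𝒰.j l).y ((C.qcoh D).obj.mapTop (𝒰.map l) s)) = _
  rw [C.eps_mapTop D (x' := (𝒰.j l).y) (x := x) (𝒰.map l) s]
  exact he (x' := (𝒰.j l).y) (x := x) (𝒰.map l) _

variable (h𝒳 : IsAlgStack Scheme.fppfPrecoverage 𝒳) {Q₁ Q₂ : 𝒳.obj → Prop}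
  (hQ₁ : IsClosedSubstack 𝒳 Q₁ Scheme.fppfPrecoverage) (hQ₂ : IsClosedSubstack 𝒳 Q₂ Scheme.fppfPrecoverage)

/-- The datum of pairs of elements of two ideals. -/
def pairDatum : FlatDatum 𝒳 where
  H x := ModuleCat.of (Fn x.1) (vanIdeal Q₁ x.1 × vanIdeal Q₂ x.1)
  res φ := AddMonoidHom.prodMap (vanRes φ) (vanRes φ)
  res_smul φ r m := Prod.ext (Subtype.ext (by simp)) (Subtype.ext (by simp))
  res_comp ψ φ m := Prod.ext (Subtype.ext (by simp [fn_comp])) (Subtype.ext (by simp [fn_comp]))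
  bc {x' x} φ hφ := by
    letI := (fnMap φ).toAlgebra
    obtain ⟨E₁, hE₁⟩ := exists_vanBC h𝒳 hQ₁ φ hφ
    obtain ⟨E₂, hE₂⟩ := exists_vanBC h𝒳 hQ₂ φ hφ
    exact ⟨(TensorProduct.prodRight (Fn x.1) (Fn x.1) (Fn x'.1) (vanIdeal Q₁ x.1)
      (vanIdeal Q₂ x.1)).toAddEquiv.trans (E₁.prodCongr E₂), fun r m => Prod.ext (hE₁ r m.1) (hE₂ r m.2)⟩

include h𝒳 hQ₁ hQ₂

/-- Disjoint closed substacks have comaximal ideals. -/
theorem vanIdeal_sup_eq_top (hd : ∀ z : AObj 𝒳, Q₁ z.1 → Q₂ z.1 → Subsingleton (Fn z.1)) (x : AObj 𝒳) :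
    vanIdeal Q₁ x.1 ⊔ vanIdeal Q₂ x.1 = ⊤ := by
  obtain ⟨z, φ, -, hker⟩ := exists_quotObj h𝒳.isStack.1 x (vanIdeal Q₁ x.1 ⊔ vanIdeal Q₂ x.1)
  haveI := hd z (mem_of_vanIdeal_le_ker h𝒳 hQ₁ φ (hker.symm ▸ le_sup_left))
    (mem_of_vanIdeal_le_ker h𝒳 hQ₂ φ (hker.symm ▸ le_sup_right))
  rw [Ideal.eq_top_iff_one, ← hker, RingHom.mem_ker]
  exact Subsingleton.elim _ _

/-- When surjections induce surjections on global sections, disjoint closed substacks are separated by functions. -/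
theorem exists_separate (C : FlatChart.{t} 𝒳)
    (hsur : ∀ ⦃A B : QCoh 𝒳⦄ (u : A ⟶ B), Mod.IsSurj u.hom → Function.Surjective (Mod.globSectMap u.hom))
    (hd : ∀ z : AObj 𝒳, Q₁ z.1 → Q₂ z.1 → Subsingleton (Fn z.1)) :
    ∃ a b : (O 𝒳).GlobSect, ∀ x : AObj 𝒳,
      fnAt a x.1 ∈ vanIdeal Q₁ x.1 ∧ fnAt b x.1 ∈ vanIdeal Q₂ x.1 ∧ fnAt a x.1 + fnAt b x.1 = 1 := by
  let D := pairDatum h𝒳 hQ₁ hQ₂
  let e₁ : ∀ x : AObj 𝒳, D.H x →ₗ[Fn x.1] Fn x.1 := fun x =>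
    (vanIdeal Q₁ x.1).subtype ∘ₗ LinearMap.fst (Fn x.1) _ _
  let e₂ : ∀ x : AObj 𝒳, D.H x →ₗ[Fn x.1] Fn x.1 := fun x =>
    (vanIdeal Q₂ x.1).subtype ∘ₗ LinearMap.snd (Fn x.1) _ _
  obtain ⟨u₁, hu₁⟩ := exists_valMap C D e₁ fun φ m => rfl
  obtain ⟨u₂, hu₂⟩ := exists_valMap C D e₂ fun φ m => rfl
  obtain ⟨u, hu⟩ := exists_valMap C D (fun x => e₁ x + e₂ x) fun φ m => (map_add (fnMap φ) _ _).symm
  have hus : Mod.IsSurj u.hom := by
    intro x hx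
    obtain ⟨𝒰, -⟩ := exists_pcov (P := C.pieces) hx
    refine surjective_of_cover_mod (C.qcoh D).property.1 (C.qcoh D).property.2 (OQ 𝒳).property.1
      (OQ 𝒳).property.2 u.hom ⟨x, hx⟩ 𝒰.toCover fun l m => ?_
    let j := 𝒰.j l
    have htop := vanIdeal_sup_eq_top h𝒳 hQ₁ hQ₂ hd (C.x j.i)
    rw [Ideal.eq_top_iff_one, Submodule.mem_sup] at htop
    obtain ⟨a, ha, b, hb, hab⟩ := htop
    obtain ⟨s, hs⟩ := (C.eps_bijective D (x := C.x j.i) (i := j.i) (𝟙 _) (by rw [bmap_id]; infer_instance)).2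
      ((⟨a, ha⟩, ⟨b, hb⟩) : vanIdeal Q₁ (C.x j.i).1 × vanIdeal Q₂ (C.x j.i).1)
    refine ⟨(show Fn j.y.1 from m) • (C.qcoh D).obj.mapTop j.p s, ?_⟩
    refine (hu j.y _).trans ?_
    rw [C.eps_smul, map_smul, C.eps_mapTop D (x' := j.y) (x := C.x j.i) j.p s, hs]
    show (show Fn j.y.1 from m) * (fnMap j.p a + fnMap j.p b) = (show Fn j.y.1 from m)
    rw [← map_add, hab, map_one, mul_one]
  let one : (O 𝒳).GlobSect := ⟨fun ξ => (1 : Γ(sch 𝒳 ξ, ⊤)), fun ξ' ξ φ => map_one (bmap 𝒳 φ).appTop.hom⟩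
  obtain ⟨s, hs⟩ := hsur u hus one
  refine ⟨Mod.globSectMap u₁.hom s, Mod.globSectMap u₂.hom s, fun x => ?_⟩
  have h : asFn x.1 ((u.hom.app x.1).app ⊤ (s.1 x.1)) = 1 := congrFun (congrArg Subtype.val hs) x.1
  rw [hu] at h
  show asFn x.1 ((u₁.hom.app x.1).app ⊤ (s.1 x.1)) ∈ _ ∧ asFn x.1 ((u₂.hom.app x.1).app ⊤ (s.1 x.1)) ∈ _ ∧
    asFn x.1 ((u₁.hom.app x.1).app ⊤ (s.1 x.1)) + asFn x.1 ((u₂.hom.app x.1).app ⊤ (s.1 x.1)) = 1
  rw [hu₁, hu₂]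
  exact ⟨(C.eps D x (s.1 x.1)).1.2, (C.eps D x (s.1 x.1)).2.2, h⟩

end Groth.L09.GoodTop
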