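import Groth.Agent.L09.GoodTop.FromGood
import Groth.Agent.L24.St.QcSep
import Groth.Agent.L24.St.PointsSp

/-!
# Good moduli spaces on points: surjective, closed, and closed sets meet over common images
-/

set_option autoImplicit false
set_option backward.isDefEq.respectTransparency false
set_option backward.isDefEq.respectTransparency.types false
set_option linter.style.haveILetI false
set_option linter.unusedVariables false
set_option linter.unusedSectionVars false

universe u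

open CategoryTheory CategoryTheory.Limits AlgebraicGeometry Opposite AlgSt StMod

noncomputable section

namespace Groth.L09.GoodTop

open Groth.L09.CohAffBC Groth.L24.St

variable {S : Scheme.{u}}

/-- The image of a chart point. -/
theorem img_ofChart {𝒵 : AlgSt.Cat S} {U W : Over S} (φ : 𝒵 ⥤ᵇ FibCat.overCat U) (x : FibCat.overCat W ⥤ᵇ 𝒵)
    {k : W ⟶ U} (e : BasedFunctor.comp x φ ≅ overMap k) (t : W.left) : img φ (Points.ofChart x t) = k.left t := by
  show overPt (Points.map φ (Points.ofChart x t)) = _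
  rw [← Function.comp_apply (f := Points.map φ), ← map_comp_ofChart, ofChart_congr e]
  show overPt (Points.map (overMap k) (ptOver t)) = _
  rw [map_overMap_ptOver, overPt_ptOver]

theorem continuous_img {𝒵 : AlgSt.Cat S} {U : Over S} (φ : 𝒵 ⥤ᵇ FibCat.overCat U) : Continuous (img φ) := by
  refine ⟨fun O hO => ?_⟩
  intro W x hx
  obtain ⟨k, ⟨e⟩, -⟩ := exists_overMap_iso (BasedFunctor.comp x φ)
  have : Points.ofChart x ⁻¹' (img φ ⁻¹' O) = k.left ⁻¹' O := by
    ext t
    simp only [Set.mem_preimage, img_ofChart φ x e]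
  rw [this]
  exact hO.preimage k.left.continuous

theorem ofChart_spChart_comp {F : AlgSp.Sp S} {U' U : Over S} (k : U' ⟶ U) (g : (AlgSp.yon S).obj U ⟶ F)
    (t : U'.left) :
    Points.ofChart (spChart ((AlgSp.yon S).map k ≫ g)) t = Points.ofChart (spChart g) (k.left t) := by
  rw [← ptMap_ofPt, ← ptMap_ofPt, ← AlgSp.Points.map_ofPt ((AlgSp.yon S).map k) g t]
  rw [show AlgSp.Points.ofPt ((AlgSp.yon S).map k) t = AlgSp.Points.ofScheme U (k.left t) by
    rw [← AlgSp.Points.ofScheme_toScheme U (AlgSp.Points.ofPt _ t), AlgSp.Points.toScheme_ofPt]]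
  rw [AlgSp.Points.map_ofPt, Category.id_comp]

/-- A field valued point as the point of a chart. -/
theorem exists_chart_through {F : AlgSp.Sp S} (q : AlgSp.FieldPt F) :
    ∃ g : (AlgSp.yon S).obj (Over.mk q.str) ⟶ F,
      Points.ofChart (spChart g) (IsLocalRing.closedPoint q.K) = Points.mk (toFPt q) := by
  refine ⟨(AlgSp.J S).uliftYonedaEquiv.symm q.val, ?_⟩
  set g : (AlgSp.yon S).obj (Over.mk q.str) ⟶ F := (AlgSp.J S).uliftYonedaEquiv.symm q.val
  rw [← ptMap_ofPt, ← ptMap_mk]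
  congr 1
  rw [show AlgSp.Points.ofPt g _ = AlgSp.Points.map g (AlgSp.Points.ofScheme (Over.mk q.str) (IsLocalRing.closedPoint q.K)) by
    rw [AlgSp.Points.map_ofPt, Category.id_comp]]
  have := AlgSp.Points.ofScheme_apply_eq_mk (Over.mk q.str) (str := q.str) (𝟙 (Spec (CommRingCat.of q.K)))
    (Category.id_comp _)
  rw [show AlgSp.Points.ofScheme (Over.mk q.str) (IsLocalRing.closedPoint q.K) = _ from this]
  have key : g.hom.app (op (Over.mk q.str)) (ULift.up (𝟙 (Over.mk q.str))) = q.val := by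
    have h0 : (AlgSp.J S).uliftYonedaEquiv g = q.val := by
      simp only [g, Equiv.apply_symm_apply]
    exact h0
  clear_value g
  obtain ⟨K, str, val⟩ := q
  refine congrArg AlgSp.Points.mk ?_
  show AlgSp.FieldPt.map g _ = _
  unfold AlgSp.FieldPt.map
  congr 1

variable {𝒳 : AlgSt.Cat S} {M : AlgSp.Space S} (π : 𝒳 ⥤ᵇ AlgSt.ofSp M.obj)

/-- The base change point lies over the point of the chart. -/
theorem map_snd_eq {U : Over S} (g : (AlgSp.yon S).obj U ⟶ M.obj) (P : Points (FibCat.fp (AlgSt.ofSpMap g) π)) :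
    Points.map π (Points.map (FibCat.fpSnd (AlgSt.ofSpMap g) π) P) = Points.ofChart (spChart g) (img (bcMap π g) P) := by
  have h1 : Points.map (toOverCat U) (Points.map (FibCat.fpFst (AlgSt.ofSpMap g) π) P) =
      ptOver (img (bcMap π g) P) := by
    rw [← map_comp_apply]
    exact (ptOver_overPt _).symm
  have h2 : Points.map (FibCat.fpFst (AlgSt.ofSpMap g) π) P = Points.map (ofOverCat U) (ptOver (img (bcMap π g) P)) := by
    refine (bijective_map_of_isEquivOver (toOverCat_isEquivOver U)).1 ?_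
    rw [h1, ← map_comp_apply]
    exact (map_id_apply _).symm
  rw [← map_comp_apply, ← map_congr (FibCat.fpIso (AlgSt.ofSpMap g) π), map_comp_apply, h2, ← map_comp_apply]
  rfl

theorem exists_lift_pt (h𝒳 : FibCat.IsFibGrpd 𝒳.p) {U : Over S} (g : (AlgSp.yon S).obj U ⟶ M.obj) (Q : Points 𝒳)
    (u : U.left) (h : Points.map π Q = Points.ofChart (spChart g) u) :
    ∃ P : Points (FibCat.fp (AlgSt.ofSpMap g) π),
      img (bcMap π g) P = u ∧ Points.map (FibCat.fpSnd (AlgSt.ofSpMap g) π) P = Q := by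
  obtain ⟨P, hP₁, hP₂⟩ := exists_points_fp h𝒳 (Groth.L24.St.ofSp_isFibGrpd _) (Groth.L24.St.ofSp_isFibGrpd _) π
    (AlgSt.ofSpMap g) (Points.map (ofOverCat U) (ptOver u)) Q (by
      rw [h, ← map_comp_apply]; rfl)
  refine ⟨P, ?_, hP₂⟩
  show overPt (Points.map (BasedFunctor.comp _ (toOverCat U)) P) = u
  rw [map_comp_apply, hP₁, ← map_comp_apply]
  exact (congrArg overPt (map_id_apply _)).trans (overPt_ptOver u)

variable (h𝒳 : IsAlgStack Scheme.fppfPrecoverage 𝒳)
  (hM : CompactFibres M.obj) (hqc : AlgSt.IsQuasiCompactMor Scheme.fppfPrecoverage π)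
  (hqs : AlgSt.IsQuasiSeparatedMor π) (h : IsGoodModuli π)
include h𝒳 hM hqc hqs h

/-- Points over a field-valued point. -/
theorem exists_pt_over_field {F : Over S} (hF : IsAffine F.left) [Subsingleton F.left]
    (g : (AlgSp.yon S).obj F ⟶ M.obj) (u : F.left) : ∃ Q, Points.map π Q = Points.ofChart (spChart g) u := by
  have H := affGood_fp h𝒳 hM π hqc hqs h hF g
  haveI : Nonempty F.left := ⟨u⟩
  obtain ⟨P⟩ := H.nonempty_points
  refine ⟨Points.map (FibCat.fpSnd (AlgSt.ofSpMap g) π) P, ?_⟩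
  rw [map_snd_eq, Subsingleton.elim (img (bcMap π g) P) u]

theorem isSurjective_of_good : IsSurjective π := by
  intro y
  obtain ⟨q, rfl⟩ := exists_toFPt y
  let T : Over S := Over.mk q.str
  obtain ⟨g, hg⟩ := exists_chart_through q
  haveI : Subsingleton T.left := inferInstanceAs (Subsingleton (Spec (CommRingCat.of q.K)))
  obtain ⟨Q, hQ⟩ := exists_pt_over_field π h𝒳 hM hqc hqs h (F := T) (isAffine_Spec _) g (IsLocalRing.closedPoint q.K)
  exact ⟨Q, hQ.trans hg⟩

/-- Closed sets with a common image meet over it. -/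
theorem exists_mem_inter {C D : Set (Points 𝒳)} (hC : IsClosed C) (hD : IsClosed D) {Q₁ Q₂ : Points 𝒳}
    (h₁ : Q₁ ∈ C) (h₂ : Q₂ ∈ D) (he : Points.map π Q₁ = Points.map π Q₂) :
    ∃ Q ∈ C ∩ D, Points.map π Q = Points.map π Q₁ := by
  obtain ⟨q, hq⟩ := exists_toFPt (Points.map π Q₁)
  let T : Over S := Over.mk q.str
  haveI : Subsingleton T.left := inferInstanceAs (Subsingleton (Spec (CommRingCat.of q.K)))
  let t : T.left := IsLocalRing.closedPoint q.K
  obtain ⟨g, hg⟩ := exists_chart_through q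
  rw [hq] at hg
  obtain ⟨P₁, hP₁, hP₁'⟩ := exists_lift_pt π h𝒳.isStack.1 g Q₁ t hg.symm
  obtain ⟨P₂, hP₂, hP₂'⟩ := exists_lift_pt π h𝒳.isStack.1 g Q₂ t (he.symm.trans hg.symm)
  have H := affGood_fp h𝒳 hM π hqc hqs h (U := T) (isAffine_Spec _) g
  by_contra hne
  push Not at hne
  have hc := continuous_map h𝒳 (FibCat.fpSnd (AlgSt.ofSpMap g) π)
  obtain ⟨f, hf₁, hf₂⟩ := H.exists_sep (hC.preimage hc) (hD.preimage hc) (Set.disjoint_left.2 fun P hPC hPD =>
    hne _ ⟨hPC, hPD⟩ (by rw [map_snd_eq, Subsingleton.elim (img (bcMap π g) P) t, hg]))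
  have a := hf₁ P₁ (show _ ∈ C by rw [hP₁']; exact h₁)
  have b := hf₂ P₂ (show _ ∈ D by rw [hP₂']; exact h₂)
  rw [hP₁] at a
  rw [hP₂] at b
  exact a b

/-- A specialisation in a chart of the image of a closed set is in the image. -/
theorem specializes_mem {C : Set (Points 𝒳)} (hC : IsClosed C) {U : Over S} (g : (AlgSp.yon S).obj U ⟶ M.obj)
    {u w : U.left} (huw : u ⤳ w) (hu : Points.ofChart (spChart g) u ∈ Points.map π '' C) :
    Points.ofChart (spChart g) w ∈ Points.map π '' C := by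
  by_contra hw
  let T : Over S := Over.mk (U.left.fromSpecStalk w ≫ U.hom)
  let k : T ⟶ U := Over.homMk (U.left.fromSpecStalk w) rfl
  let t : T.left := IsLocalRing.closedPoint (U.left.presheaf.stalk w)
  have hkt : k.left t = w := U.left.fromSpecStalk_closedPoint
  let g' : (AlgSp.yon S).obj T ⟶ M.obj := (AlgSp.yon S).map k ≫ g
  have hg' : ∀ s, Points.ofChart (spChart g') s = Points.ofChart (spChart g) (k.left s) := fun s =>
    ofChart_spChart_comp k g s
  obtain ⟨v, hv⟩ : u ∈ Set.range k.left := by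
    show u ∈ Set.range (U.left.fromSpecStalk w)
    rw [Scheme.range_fromSpecStalk]
    exact huw
  have H := affGood_fp h𝒳 hM π hqc hqs h (U := T) (isAffine_Spec _) g'
  have hc := continuous_map h𝒳 (FibCat.fpSnd (AlgSt.ofSpMap g') π)
  have ht : IsClosed ({t} : Set T.left) := IsLocalRing.isClosed_singleton_closedPoint _
  obtain ⟨f, hf₁, hf₂⟩ := H.exists_sep (hC.preimage hc) (ht.preimage (continuous_img (bcMap π g')))
    (Set.disjoint_left.2 fun P hPC hPt => hw ⟨_, hPC, by
      rw [map_snd_eq, hg', show img (bcMap π g') P = t from hPt, hkt]⟩)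
  obtain ⟨Q, hQ⟩ := isSurjective_of_good π h𝒳 hM hqc hqs h (Points.ofChart (spChart g) w)
  obtain ⟨P₀, hP₀, -⟩ := exists_lift_pt π h𝒳.isStack.1 g' Q t (by rw [hQ, hg', hkt])
  have ht' : t ∈ T.left.basicOpen f := hP₀ ▸ hf₂ P₀ hP₀
  obtain ⟨Q', hQ'C, hQ'⟩ := hu
  obtain ⟨P', hP', hP''⟩ := exists_lift_pt π h𝒳.isStack.1 g' Q' v (by rw [hQ', hg', hv])
  refine hf₁ P' (show _ ∈ C by rw [hP'']; exact hQ'C) ?_
  rw [hP']
  exact (IsLocalRing.specializes_closedPoint v).mem_open (T.left.basicOpen f).isOpen ht'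

omit hM hqs h

/-- The image of a closed set in an affine chart, as the image of a closed set under a map of affine schemes. -/
theorem exists_affine_cover {C : Set (Points 𝒳)} (hC : IsClosed C) {U : Over S} (hU : IsAffine U.left)
    (g : (AlgSp.yon S).obj U ⟶ M.obj) :
    ∃ (W : Over S) (k : W ⟶ U) (D : Set W.left), IsAffine W.left ∧ IsClosed D ∧
      k.left '' D = Points.ofChart (spChart g) ⁻¹' (Points.map π '' C) := by
  let V : AlgSp.Space S := ⟨(AlgSp.yon S).obj U, AlgSp.IsAlgSpace.yon_obj U⟩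
  let g' : V.obj ⟶ M.obj := g
  have h𝒵 := Groth.L24.St.isAlgStack_fp (Groth.L09.Gerbe.isAlgStack_ofSp V) h𝒳
    (Groth.L09.Gerbe.isAlgStack_ofSp M) (AlgSt.ofSpMap g') π
  obtain ⟨W, x, hW, -, hxs⟩ := hqc (AlgSt.ofSp V.obj) (Groth.L09.Gerbe.isAlgStack_ofSp V)
    ((isQuasiCompact_iff_of_isEquivOver (toOverCat_isEquivOver U)).2 (isQuasiCompact_overCat U)) (AlgSt.ofSpMap g')
  obtain ⟨k, ⟨e⟩, -⟩ := exists_overMap_iso (BasedFunctor.comp x (bcMap π g))
  let D : Set W.left := Points.ofChart x ⁻¹' (Points.map (FibCat.fpSnd (AlgSt.ofSpMap g) π) ⁻¹' C)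
  refine ⟨W, k, D, hW, (hC.preimage (continuous_map h𝒳 _)).preimage (continuous_ofChart h𝒵 x), ?_⟩
  ext u
  constructor
  · rintro ⟨w, hw, rfl⟩
    refine ⟨_, hw, ?_⟩
    rw [map_snd_eq, img_ofChart _ x e]
  · rintro ⟨Q, hQC, hQ⟩
    obtain ⟨P, hP, hP'⟩ := exists_lift_pt π h𝒳.isStack.1 g Q u hQ
    obtain ⟨w, rfl⟩ := surjective_ofChart_of_repWith h𝒵.isStack.1 hxs P
    exact ⟨w, show _ ∈ C by rw [hP']; exact hQC, by rw [← img_ofChart _ x e, hP]⟩

end Groth.L09.GoodTop
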